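import Groth.Agent.Lead.SelfHom.PerfPush
import Groth.Agent.Lead.RelTorStalk
import Groth.Agent.L29.BCAdj.AdjOpen
import Groth.Agent.L29.BCAdj.HomFlat
import Groth.Agent.L29.BC.RelPerfPush
import Groth.Agent.L24.TorSmooth.Main
import Groth.Agent.L10.FMDiag.Basic
import Groth.Agent.S7230
import Groth.Agent.S1766

/-!
`a(O)` is perfect relative to the base.
-/

set_option autoImplicit false
set_option linter.style.haveILetI false
set_option backward.defeqAttrib.useBackward true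
set_option backward.isDefEq.respectTransparency false
set_option backward.isDefEq.respectTransparency.types false

universe u

open CategoryTheory CategoryTheory.Limits AlgebraicGeometry

attribute [local instance] HasDerivedCategory.standard

noncomputable section

namespace Groth.Lead.SelfHom

open Groth.L00 Groth.L29 Groth.L29.DC

variable {X Y : Scheme.{u}}

/-- direct images of perfect objects are perfect -/
theorem perfect_push (f : X ⟶ Y) [IsProper f] [Flat f] [LocallyOfFinitePresentation f] [DCoh.HasRpush f]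
    (P : DCoh.D X) (hP : DCoh.IsPerfect P) : DCoh.IsPerfect ((DCoh.Rpush f).obj P) :=
  BC.isPerfect_Rpush' f (fun m => pc_of_perfect hP m) (RelTor.perfect_relPerfect f hP)

/-- tor amplitude after composing with a flat morphism of the base -/
theorem amp_comp_flat {S : Scheme.{u}} (f : X ⟶ Y) (q : Y ⟶ S) [Flat q] (x : X) (a b : ℤ)
    (G : CochainComplex X.Modules ℤ) (h : DerSch.HasTorAmplitudeAt f a b G x) :
    DerSch.HasTorAmplitudeAt (f ≫ q) a b G x := by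
  letI : Algebra (S.presheaf.stalk (q (f x))) (Y.presheaf.stalk (f x)) := (q.stalkMap (f x)).hom.toAlgebra
  haveI : Module.Flat (S.presheaf.stalk (q (f x))) (Y.presheaf.stalk (f x)) := Flat.stalkMap q (f x)
  have h' : DRing.HasTorAmplitudeIn (S.presheaf.stalk (q (f x))) a b
      (DRing.toD (Groth.L20.TorAmp.res (A := S.presheaf.stalk (q (f x))) ((DerSch.stalkCxOver f x).obj G))) := by
    obtain ⟨E, hEv, hE, ⟨e⟩⟩ := h
    exact ⟨Groth.L20.TorAmp.res E, fun i hi => Functor.map_isZero (ModuleCat.restrictScalars.{u} _) (hEv i hi),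
      fun i => (haveI := hE i; Groth.L20.TorAmp.flat_restrict (E.X i)),
      ⟨(Groth.L20.TorAmp.resIso E).symm ≪≫ (DRing.restrictD _).mapIso e ≪≫
        Groth.L20.TorAmp.resIso ((DerSch.stalkCxOver f x).obj G)⟩⟩
  exact Groth.L10.DR.amp_of_iso
    (DerivedCategory.Q.mapIso ((NatIso.mapHomologicalComplex (Groth.L24.TorSmooth.stalkOverComp f q x)
      (ComplexShape.up ℤ)).app G)) h'

variable [QuasiSeparatedSpace Y] (f : X ⟶ Y) [IsProper f] [Flat f] [LocallyOfFinitePresentation f] [DCoh.HasRpush f]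
  {hf : DCoh.RpushPreservesQCoh f} {a : DCoh.DQCoh Y ⥤ DCoh.DQCoh X} (adj : DCoh.RpushQ f hf ⊣ a)
  (O : DCoh.DQCoh Y)

include adj in
set_option maxHeartbeats 800000 in
/-- the adjoint over an affine open of the base -/
theorem exists_local_adj [CompactSpace X] [QuasiSeparatedSpace X]
    (hO : Nonempty (O.obj ≅ DCoh.inD Y (Coh.structureModule Y))) (V : Y.Opens) (hV : IsAffineOpen V)
    [DCoh.HasRpush (f ∣_ V)] :
    ∃ (aV : DCoh.DQCoh (V : Scheme.{u}) ⥤ DCoh.DQCoh (f ⁻¹ᵁ V : Scheme.{u}))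
      (hfV : DCoh.RpushPreservesQCoh (f ∣_ V)) (_ : DCoh.RpushQ (f ∣_ V) hfV ⊣ aV) (OV : DCoh.DQCoh (V : Scheme.{u}))
      (_ : Nonempty (OV.obj ≅ DCoh.inD (V : Scheme.{u}) (Coh.structureModule (V : Scheme.{u})))),
      Nonempty ((aV.obj OV).obj ≅ (resD (f ⁻¹ᵁ V)).obj (a.obj O).obj) := by
  haveI := fun {A B : Scheme.{u}} (h : A ⟶ B) => RpushQC.hasRpush h
  haveI := fun {A B : Scheme.{u}} (h : A ⟶ B) => KFlat.hasLpull h
  haveI := fun {Z : Scheme.{u}} (E : CochainComplex Z.Modules ℤ) => KFlat.hasLTensorCx E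
  haveI : IsAffine (V : Scheme.{u}) := hV
  let W := f ⁻¹ᵁ V
  let fV := f ∣_ V
  haveI : IsProper fV := IsZariskiLocalAtTarget.restrict ‹IsProper f› V
  haveI : Flat fV := IsZariskiLocalAtTarget.restrict ‹Flat f› V
  haveI : LocallyOfFinitePresentation fV := IsZariskiLocalAtTarget.restrict ‹LocallyOfFinitePresentation f› V
  haveI : CompactSpace (V : Scheme.{u}) := isCompact_iff_compactSpace.1 hV.isCompact
  haveI : CompactSpace (W : Scheme.{u}) := isCompact_iff_compactSpace.1 (f.isCompact_preimage hV.isCompact)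
  haveI : QuasiSeparatedSpace (W : Scheme.{u}) := quasiSeparatedSpace_of_quasiSeparated W.ι
  have hR : ∀ {A B : Scheme.{u}} (j : A ⟶ B) [QuasiCompact j] [QuasiSeparated j], DCoh.RpushPreservesQCoh j :=
    fun j _ _ K hK => RpushQC.isQCohD_Rpush j K hK
  have hL : ∀ {A B : Scheme.{u}} (j : A ⟶ B), Dual3.LpullPreservesQCoh j := fun j K hK => isQCohD_Lpull j hK
  obtain ⟨aV, ⟨adjV⟩⟩ : ∃ aV, Nonempty (DCoh.RpushQ fV (hR fV) ⊣ aV) := by
    haveI := Groth.Agent.S1766.result (W : Scheme.{u}) (V : Scheme.{u}) fV (hR fV)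
    exact ⟨_, ⟨Adjunction.ofIsLeftAdjoint (DCoh.RpushQ fV (hR fV))⟩⟩
  have hi : IsPullback W.ι fV f V.ι := (isPullback_morphismRestrict f V).flip
  haveI : QuasiCompact V.ι := quasiCompact_of_compactSpace V.ι
  haveI : QuasiCompact W.ι := inferInstance
  let AV := BCAdj.adjQ V.ι (hR V.ι) (hL V.ι)
  let AW := BCAdj.adjQ W.ι (hR W.ι) (hL W.ι)
  let ei := BCAdj.eQ hf (hR fV) (hR V.ι) (hR W.ι) hi.w
  have hθi := BCAdj.isIso_bcQ (hf := hf) (hf' := hR fV) AV AW (BC.BC_flat hi)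
  let βi := Dual3.bcMap adj adjV ei AV AW O (BCAdj.Mate.isIso_xi adj adjV _ AV AW hθi _)
  haveI : IsIso βi := BCAdj.isIso_bcMap_open V hV.isCompact adj adjV ei AV AW (perfect_push f) O _
  let OV := (Dual3.LpullQ V.ι (hL V.ι)).obj O
  have hOV : Nonempty (OV.obj ≅ DCoh.inD (V : Scheme.{u}) (Coh.structureModule (V : Scheme.{u}))) := by
    obtain ⟨eO⟩ := hO
    obtain ⟨c⟩ := BCAdj.nonempty_Lpull_OD V.ι
    exact ⟨(DCoh.Lpull V.ι).mapIso eO ≪≫ c⟩
  obtain ⟨r⟩ := nonempty_Lpull_iso_restrictD W.ι (a.obj O).obj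
  exact ⟨aV, hR fV, adjV, OV, hOV, ⟨((DCoh.IsQCohD (X := (W : Scheme.{u}))).ι.mapIso (asIso βi)).symm ≪≫ r⟩⟩

include adj in
set_option maxHeartbeats 800000 in
/-- `a(O)` over an affine open of the base -/
theorem exists_local_rep [CompactSpace X] [QuasiSeparatedSpace X]
    (hO : Nonempty (O.obj ≅ DCoh.inD Y (Coh.structureModule Y))) (V : Y.Opens) (hV : IsAffineOpen V) :
    ∃ K : CochainComplex (f ⁻¹ᵁ V : Scheme.{u}).Modules ℤ, ∃ _ : DCoh.HasLTensorCx K,
      Nonempty (DCoh.toD _ K ≅ (resD (f ⁻¹ᵁ V)).obj (a.obj O).obj) ∧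
      ∀ [DCoh.HasRpush (f ∣_ V)], ∀ E : DCoh.D (f ⁻¹ᵁ V : Scheme.{u}), DCoh.IsPerfect E →
        DCoh.IsPerfect ((DCoh.Rpush (f ∣_ V)).obj ((DCoh.LTensorCx K).obj E)) := by
  haveI := fun {A B : Scheme.{u}} (h : A ⟶ B) => RpushQC.hasRpush h
  haveI := fun {Z : Scheme.{u}} (E : CochainComplex Z.Modules ℤ) => KFlat.hasLTensorCx E
  haveI : IsAffine (V : Scheme.{u}) := hV
  haveI : IsProper (f ∣_ V) := IsZariskiLocalAtTarget.restrict ‹IsProper f› V
  haveI : Flat (f ∣_ V) := IsZariskiLocalAtTarget.restrict ‹Flat f› V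
  haveI : LocallyOfFinitePresentation (f ∣_ V) := IsZariskiLocalAtTarget.restrict ‹LocallyOfFinitePresentation f› V
  haveI : CompactSpace (f ⁻¹ᵁ V : Scheme.{u}) := isCompact_iff_compactSpace.1 (f.isCompact_preimage hV.isCompact)
  haveI : QuasiSeparatedSpace (f ⁻¹ᵁ V : Scheme.{u}) := quasiSeparatedSpace_of_quasiSeparated (f ⁻¹ᵁ V).ι
  obtain ⟨aV, hfV, adjV, OV, hOV, ⟨eN⟩⟩ := exists_local_adj f adj O hO V hV
  exact ⟨_, inferInstance, ⟨Groth.L07.BvdB.DualFun.repIso _ ≪≫ eN⟩, fun E hE =>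
    isPerfect_push_tensor (f ∣_ V) adjV OV hOV (perfect_push (f ∣_ V))
      (Groth.L07.BvdB.DualFun.rep (aV.obj OV).obj) (Groth.L07.BvdB.DualFun.repIso _) E hE⟩

include adj in
set_option maxHeartbeats 800000 in
/-- the local statement -/
theorem relPerfect_local [CompactSpace X] [QuasiSeparatedSpace X]
    (hO : Nonempty (O.obj ≅ DCoh.inD Y (Coh.structureModule Y))) (V : Y.Opens) (hV : IsAffineOpen V)
    (G : CochainComplex X.Modules ℤ) (eG : DCoh.toD X G ≅ (a.obj O).obj) :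
    (∀ m : ℤ, DCoh.IsPseudoCoherentD m ((resD (f ⁻¹ᵁ V)).obj (a.obj O).obj)) ∧
      ∀ x : X, f x ∈ V → ∃ (W' : X.Opens) (p q : ℤ), x ∈ W' ∧
        ∀ x' : X, x' ∈ W' → DerSch.HasTorAmplitudeAt f p q G x' := by
  haveI := fun {A B : Scheme.{u}} (h : A ⟶ B) => RpushQC.hasRpush h
  haveI : IsAffine (V : Scheme.{u}) := hV
  obtain ⟨K, hKt, ⟨eK⟩, hK⟩ := exists_local_rep f adj O hO V hV
  let W := f ⁻¹ᵁ V
  let fV := f ∣_ V
  haveI : IsProper fV := IsZariskiLocalAtTarget.restrict ‹IsProper f› V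
  haveI : Flat fV := IsZariskiLocalAtTarget.restrict ‹Flat f› V
  haveI : LocallyOfFinitePresentation fV := IsZariskiLocalAtTarget.restrict ‹LocallyOfFinitePresentation f› V
  let π : (W : Scheme.{u}) ⟶ Spec Γ(Y, V) := fV ≫ hV.isoSpec.hom
  have hq : DCoh.IsQCohD (DCoh.toD _ K) :=
    isQCohD_of_iso eK.symm (isQCohD_restrictD W.ι (a.obj O).property)
  obtain ⟨hpc, hamp⟩ := Groth.Agent.S7230.result Γ(Y, V) π K hq fun E hE =>
    isPerfect_of_iso ((BC.cR (rfl : fV ≫ hV.isoSpec.hom = π)).app _) (perfect_push hV.isoSpec.hom _ (hK E hE))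
  refine ⟨fun m => isPseudoCoherentD_of_iso eK (hpc m), fun x hx => ?_⟩
  obtain ⟨W', p, q, hxW, hW⟩ := hamp ((DCoh.restrictCx W).obj G)
    ⟨(resQIso W G).symm ≪≫ (resD W).mapIso eG ≪≫ eK.symm⟩ ⟨x, hx⟩
  refine ⟨W.ι ''ᵁ W', p, q, ⟨⟨x, hx⟩, hxW, rfl⟩, ?_⟩
  rintro _ ⟨y, hy, rfl⟩
  have h := amp_comp_flat π hV.fromSpec y p q _ (hW y hy)
  have hw : π ≫ hV.fromSpec = W.ι ≫ f := by
    simp [π, fV, W, IsAffineOpen.isoSpec_hom_fromSpec, morphismRestrict_ι]
  rw [hw] at h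
  exact (Groth.Lead.SmoothStalk.amp_restrict_iff f W.ι y G p q).1 h

include adj in
/-- `a(O)` is perfect relative to the base and bounded below -/
theorem relPerfect [CompactSpace X] [QuasiSeparatedSpace X]
    (hO : Nonempty (O.obj ≅ DCoh.inD Y (Coh.structureModule Y))) :
    (∀ m : ℤ, DCoh.IsPseudoCoherentD m (a.obj O).obj) ∧ DCoh.LocHasFiniteRelTorDim f (a.obj O).obj ∧
      ∃ c : ℤ, (a.obj O).obj.IsGE c := by
  let G := DerivedCategory.Q.objPreimage (a.obj O).obj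
  let eG : DCoh.toD X G ≅ (a.obj O).obj := DerivedCategory.Q.objObjPreimageIso _
  have hloc : ∀ x : X, ∃ (V : Y.Opens) (hV : IsAffineOpen V), f x ∈ V := fun x => by
    obtain ⟨_, ⟨V, hV, rfl⟩, hx, -⟩ :=
      Y.isBasis_affineOpens.exists_subset_of_mem_open (Set.mem_univ (f x)) isOpen_univ
    exact ⟨V, hV, hx⟩
  have htor : DCoh.LocHasFiniteRelTorDim f (a.obj O).obj := by
    refine (Groth.Lead.RelTorStalk.locRel_iff f _ G eG).2 fun x => ?_
    obtain ⟨V, hV, hx⟩ := hloc x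
    exact (relPerfect_local f adj O hO V hV G eG).2 x hx
  refine ⟨fun m => PCDesc.pc_of_local fun x => ?_, htor, ?_⟩
  · obtain ⟨V, hV, hx⟩ := hloc x
    exact ⟨f ⁻¹ᵁ V, hx, (relPerfect_local f adj O hO V hV G eG).1 m⟩
  · haveI := fun {A B : Scheme.{u}} (h : A ⟶ B) => KFlat.hasLpull h
    obtain ⟨c, hc⟩ := BC.exists_isGE_Lpull f (a.obj O).obj htor
    obtain ⟨e⟩ := Groth.L10.FMDiag.nonempty_Lpull_id (X := X)
    haveI := hc (g' := 𝟙 X) (f' := f) (g := 𝟙 Y) (IsPullback.of_horiz_isIso ⟨by simp⟩)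
    exact ⟨c, DerivedCategory.TStructure.t.isGE_of_iso (e.app (a.obj O).obj) c⟩

end Groth.Lead.SelfHom
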