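import Groth.Agent.Lead.SelfHom.RelPerf
import Groth.Agent.Lead.AmpRpush
import Groth.Agent.L29.BC.AdjTensor
import Groth.Agent.L10.DRing.Perfect

/-!
`Rf_* a(O)` has no cohomology in positive degrees.
-/

set_option autoImplicit false
set_option linter.style.haveILetI false
set_option backward.defeqAttrib.useBackward true
set_option backward.isDefEq.respectTransparency false
set_option backward.isDefEq.respectTransparency.types false

universe u

open CategoryTheory CategoryTheory.Limits AlgebraicGeometry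

attribute [local instance] HasDerivedCategory.standard

noncomputable section

namespace Groth.Lead.SelfHom

open Groth.L00 Groth.L29 Groth.L29.DC

section Ring

variable {A : Type u} [CommRing A]

/-- cohomology is tested by maps out of shifts of the ring -/
theorem isZero_HH_of_hom {M : Dual.D A} (i : ℤ)
    (h : ∀ φ : DRing.toD ((HomologicalComplex.single (ModuleCat.{u} A) (ComplexShape.up ℤ) i).obj
      (ModuleCat.of A A)) ⟶ M, φ = 0) : IsZero ((Groth.L02.PC.HH i).obj M) := by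
  let L : DRing.Cx A := DerivedCategory.Q.objPreimage M
  let e : DRing.toD L ≅ M := DerivedCategory.Q.objObjPreimageIso M
  refine (Groth.L10.DR.HH_iso_zero e i).2 ?_
  have hπ : L.homologyπ i = 0 := by
    ext z
    let s : ModuleCat.of A A ⟶ L.cycles i := ModuleCat.ofHom (LinearMap.toSpanSingleton A _ z)
    let g := HomologicalComplex.mkHomFromSingle (s ≫ L.iCycles i) (fun j _ => by simp)
    have hg : DerivedCategory.Q.map g = 0 := by
      rw [← cancel_mono e.hom, zero_comp]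
      exact h _
    have h0 : HomologicalComplex.homologyMap g i = 0 := by
      have := (DerivedCategory.homologyFunctorFactors (ModuleCat.{u} A) i).hom.naturality g
      dsimp at this
      rw [hg, Functor.map_zero, zero_comp] at this
      exact (cancel_epi ((DerivedCategory.homologyFunctorFactors (ModuleCat.{u} A) i).hom.app _)).1
        (this.symm.trans comp_zero.symm)
    have hs : (HomologicalComplex.singleObjCyclesSelfIso (ComplexShape.up ℤ) i (ModuleCat.of A A)).inv ≫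
        HomologicalComplex.cyclesMap g i = s := by
      rw [← cancel_mono (L.iCycles i)]
      simp [g, HomologicalComplex.singleObjCyclesSelfIso]
    have hz : s ≫ L.homologyπ i = 0 := by
      rw [← hs, Category.assoc, ← HomologicalComplex.homologyπ_naturality, h0, comp_zero, comp_zero]
    have := congrArg (fun k => (ConcreteCategory.hom k) (1 : A)) hz
    have h1 : (ConcreteCategory.hom s) (1 : A) = z := one_smul A z
    change (ConcreteCategory.hom (L.homologyπ i)) ((ConcreteCategory.hom s) (1 : A)) = 0 at this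
    rwa [h1] at this
  exact IsZero.of_epi_eq_zero (L.homologyπ i) hπ

/-- no maps from a complex of projectives in degrees `≥ 0`, shifted right, to the ring -/
theorem hom_shift_eq_zero {P : DRing.Cx A} {B : ℤ} (hv : DRing.VanishesOutside P 0 B)
    (hP : DRing.TermwiseFiniteProjective P) {i : ℤ} (hi : 0 < i)
    (φ : (DRing.toD P)⟦-i⟧ ⟶ DRing.toD ((HomologicalComplex.single (ModuleCat.{u} A) (ComplexShape.up ℤ) 0).obj
      (ModuleCat.of A A))) : φ = 0 := by
  let P' : DRing.Cx A := P⟦-i⟧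
  have hv' : ∀ n, n < i ∨ B + i < n → IsZero (P'.X n) := fun n hn =>
    (hv (n + -i) (by omega)).of_iso ((CochainComplex.shiftFunctorObjXIso P (-i) n (n + -i) rfl))
  haveI : P'.IsKProjective := Groth.L02.PC.isKProjective_of_vanishesAbove (b := B + i)
    (fun n hn => hv' n (Or.inr hn)) fun n =>
      haveI := (hP (n + -i)).2
      Module.Projective.of_equiv (CochainComplex.shiftFunctorObjXIso P (-i) n (n + -i) rfl).symm.toLinearEquiv
  let c : (DRing.toD P)⟦-i⟧ ≅ DRing.toD P' := ((DerivedCategory.Q.commShiftIso (-i)).app P).symm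
  obtain ⟨g, hg⟩ := (CochainComplex.IsKProjective.Qh_map_bijective P' _).surjective
    ((DerivedCategory.quotientCompQhIso _).hom.app P' ≫ c.inv ≫ φ ≫
      (DerivedCategory.quotientCompQhIso _).inv.app _)
  obtain ⟨g, rfl⟩ := (HomotopyCategory.quotient _ _).map_surjective g
  have : g = 0 := HomologicalComplex.to_single_hom_ext ((hv' 0 (Or.inl hi)).eq_of_src _ _)
  rw [this, Functor.map_zero, Functor.map_zero] at hg
  rw [← cancel_epi c.inv, ← cancel_epi ((DerivedCategory.quotientCompQhIso _).hom.app P'),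
    ← cancel_mono ((DerivedCategory.quotientCompQhIso _).inv.app _)]
  simp only [Category.assoc, comp_zero, zero_comp]
  exact hg.symm

end Ring

variable {X Y : Scheme.{u}}

/-- the structure sheaf has flat amplitude zero -/
theorem flatAmp_O : DCoh.HasFlatAmplitudeIn 0 0 (DCoh.toD X (RHom.O0 X)) :=
  ⟨RHom.O0 X, fun i hi => HomologicalComplex.isZero_single_obj_X _ _ _ _ (by omega),
    fun i => by
      by_cases hi : i = 0
      · subst hi
        exact Groth.L00.KFlat.isFlat_of_iso (HomologicalComplex.singleObjXSelf _ _ _).symm (isFlat_structureModule X)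
      · exact isFlat_of_isFinLocFree (Groth.L29.LocFree.of_isZero (HomologicalComplex.isZero_single_obj_X _ _ _ _ hi)),
    ⟨Iso.refl _⟩⟩

set_option maxHeartbeats 1600000 in
/-- maps from a shift of `Rπ_* O` to `O` over an affine base vanish -/
theorem hom_push_eq_zero {A : Type u} [CommRing A] (π : X ⟶ Spec (CommRingCat.of A)) [IsProper π] [Flat π]
    [LocallyOfFinitePresentation π] [DCoh.HasRpush π]
    [PreservesFiniteLimits (tilde.functor (CommRingCat.of A))] {i : ℤ} (hi : 0 < i)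
    (φ : ((DCoh.Rpush π).obj (DCoh.toD X (RHom.O0 X)))⟦-i⟧ ⟶
      (DCoh.tildeD (CommRingCat.of A)).obj
        (DRing.toD ((HomologicalComplex.single (ModuleCat.{u} A) (ComplexShape.up ℤ) 0).obj (ModuleCat.of A A)))) :
    φ = 0 := by
  haveI : CompactSpace X := QuasiCompact.compactSpace_of_compactSpace π
  have hperf : DCoh.IsPerfect (DCoh.toD X (RHom.O0 X)) := BC.AdjTensor.isPerfect_O0
  have hpc := fun m => pc_of_perfect (perfect_push π _ hperf) m
  obtain ⟨N, hN⟩ := TildeAlg.exists_isZero (hpc 0)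
  have hamp := Groth.Lead.AmpRpush.flatAmp_Rpush_spec π (B := max N 0) flatAmp_O
    (fun m => pc_of_perfect hperf m) fun j hj => hN j (by omega)
  obtain ⟨K₀, ⟨e₀⟩⟩ := (TildeD.isQCohD_iff _).1 (PCQCoh.isQCohD_of_pc hpc)
  have hA := TildeAlg.amp_of_tilde (K := K₀) (flatAmp_of_iso e₀.symm hamp)
  obtain ⟨P, hv, hP, ⟨eP⟩⟩ := Groth.L10.DR.exists_finiteProjective
    (Groth.L02.PC.pc'_of_forall fun m => TildeAlg.pc_of_tilde (isPseudoCoherentD_of_iso e₀.symm (hpc m))) hA
  haveI := (TildeD.fullyFaithful (R := CommRingCat.of A)).1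
  haveI := (TildeD.fullyFaithful (R := CommRingCat.of A)).2
  let T := DCoh.tildeD (CommRingCat.of A)
  let c : T.obj ((DRing.toD P)⟦-i⟧) ≅ ((DCoh.Rpush π).obj (DCoh.toD X (RHom.O0 X)))⟦-i⟧ :=
    (T.commShiftIso (-i)).app _ ≪≫ (shiftFunctor _ (-i)).mapIso (T.mapIso eP ≪≫ e₀)
  obtain ⟨ψ, hψ⟩ := T.map_surjective (c.hom ≫ φ)
  rw [hom_shift_eq_zero hv hP hi ψ, Functor.map_zero] at hψ
  rw [← cancel_epi c.hom, comp_zero]
  exact hψ.symm

/-- derived direct image along an isomorphism is an equivalence -/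
theorem isEquivalence_Rpush (e : X ≅ Y) [DCoh.HasRpush e.hom] : (DCoh.Rpush e.hom).IsEquivalence := by
  haveI := fun {A B : Scheme.{u}} (h : A ⟶ B) => RpushQC.hasRpush h
  obtain ⟨a⟩ := Groth.L10.FMDiag.nonempty_Rpush_id (X := X)
  obtain ⟨b⟩ := Groth.L10.FMDiag.nonempty_Rpush_id (X := Y)
  exact (CategoryTheory.Equivalence.mk (DCoh.Rpush e.hom) (DCoh.Rpush e.inv)
    (a.symm ≪≫ (BC.cR e.hom_inv_id).symm) (BC.cR e.inv_hom_id ≪≫ b)).isEquivalence_functor

variable [QuasiSeparatedSpace Y] (f : X ⟶ Y) [IsProper f] [Flat f] [LocallyOfFinitePresentation f] [DCoh.HasRpush f]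
  {hf : DCoh.RpushPreservesQCoh f} {a : DCoh.DQCoh Y ⥤ DCoh.DQCoh X} (adj : DCoh.RpushQ f hf ⊣ a)
  (O : DCoh.DQCoh Y)

include adj in
set_option maxHeartbeats 1600000 in
/-- maps into the restriction of `Rf_* a O` to an affine open vanish -/
theorem hom_restrict_eq_zero [CompactSpace X] [QuasiSeparatedSpace X]
    (hO : Nonempty (O.obj ≅ DCoh.inD Y (Coh.structureModule Y))) (V : Y.Opens) (hV : IsAffineOpen V)
    {i : ℤ} (hi : 0 < i) :
    IsZero (DCoh.HD ((resD V).obj ((DCoh.Rpush f).obj (a.obj O).obj)) i) := by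
  haveI := fun {A B : Scheme.{u}} (h : A ⟶ B) => RpushQC.hasRpush h
  haveI := fun {A B : Scheme.{u}} (h : A ⟶ B) => KFlat.hasLpull h
  haveI : IsAffine (V : Scheme.{u}) := hV
  let W := f ⁻¹ᵁ V
  let fV := f ∣_ V
  haveI : IsProper fV := IsZariskiLocalAtTarget.restrict ‹IsProper f› V
  haveI : Flat fV := IsZariskiLocalAtTarget.restrict ‹Flat f› V
  haveI : LocallyOfFinitePresentation fV := IsZariskiLocalAtTarget.restrict ‹LocallyOfFinitePresentation f› V
  let π : (W : Scheme.{u}) ⟶ Spec Γ(Y, V) := fV ≫ hV.isoSpec.hom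
  haveI := Groth.L18.TildeF.tilde_preservesFiniteLimits (R := Γ(Y, V))
  let N := (resD W).obj (a.obj O).obj
  obtain ⟨eV⟩ := RpushRes.nonempty_iso f hV.fromSpec W.ι π
    (by rw [hV.opensRange_fromSpec, Scheme.Opens.opensRange_ι])
    (by simp [π, fV, W, IsAffineOpen.isoSpec_hom_fromSpec, morphismRestrict_ι])
  suffices hz : IsZero (DCoh.HD ((DCoh.Rpush π).obj N) i) by
    have h1 : IsZero (DCoh.HD ((DCoh.restrictD hV.fromSpec).obj ((DCoh.Rpush f).obj (a.obj O).obj)) i) :=
      hz.of_iso ((DerivedCategory.homologyFunctor _ i).mapIso (eV.app _))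
    exact (((Scheme.Modules.restrictFunctor hV.isoSpec.hom).map_isZero h1).of_iso
      (HDResIso hV.isoSpec.hom _ i)).of_iso ((DerivedCategory.homologyFunctor _ i).mapIso
        ((resTransD hV.fromSpec hV.isoSpec.hom V.ι hV.isoSpec_hom_fromSpec).app _).symm)
  obtain ⟨M₀, ⟨e₀⟩⟩ := (TildeD.isQCohD_iff _).1
    (RpushQC.isQCohD_Rpush π N (isQCohD_restrictD W.ι (a.obj O).property))
  haveI := (TildeD.fullyFaithful (R := Γ(Y, V))).2
  refine ((TildeAlg.isZero_hd_iff M₀ i).2 (isZero_HH_of_hom i fun φ => ?_)).of_iso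
    ((DerivedCategory.homologyFunctor _ i).mapIso e₀.symm)
  obtain ⟨aV, hfV, adjV, OV, hOV, ⟨eN⟩⟩ := exists_local_adj f adj O hO V hV
  obtain ⟨eO⟩ := hOV
  let T := DCoh.tildeD Γ(Y, V)
  let A₁ : ModuleCat.{u} Γ(Y, V) := ModuleCat.of Γ(Y, V) Γ(Y, V)
  let S := T.obj (DRing.toD ((HomologicalComplex.single _ (ComplexShape.up ℤ) i).obj A₁))
  let T0 := T.obj (DRing.toD ((HomologicalComplex.single _ (ComplexShape.up ℤ) 0).obj A₁))
  let O₁ := DCoh.toD (W : Scheme.{u}) (RHom.O0 _)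
  -- the comparison isomorphisms
  let u : T0 ≅ BCAdj.OD (Spec Γ(Y, V)) :=
    T.mapIso ((DerivedCategory.singleFunctorIsoCompQ _ 0).app A₁).symm ≪≫
      ((tilde.functor Γ(Y, V)).mapDerivedCategorySingleFunctor 0).app A₁ ≪≫
      (DerivedCategory.singleFunctor _ 0).mapIso tildeSelf
  letI := BC.commShiftLpull π
  letI := Gen.commShiftRpush π
  obtain ⟨cπ⟩ := BCAdj.nonempty_Lpull_OD π
  obtain ⟨cW⟩ := EvalMain.nonempty_O0_iso (X := (W : Scheme.{u}))
  let d : DRing.toD ((HomologicalComplex.single _ (ComplexShape.up ℤ) i).obj A₁) ≅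
      (DRing.toD ((HomologicalComplex.single _ (ComplexShape.up ℤ) 0).obj A₁))⟦-i⟧ :=
    ((DerivedCategory.singleFunctorIsoCompQ _ i).app A₁).symm ≪≫
      (((DerivedCategory.singleFunctors (ModuleCat.{u} Γ(Y, V))).shiftIso (-i) i 0 (by omega)).app A₁).symm ≪≫
        (shiftFunctor _ (-i)).mapIso ((DerivedCategory.singleFunctorIsoCompQ _ 0).app A₁)
  let cS : S ≅ (BCAdj.OD (Spec Γ(Y, V)))⟦-i⟧ :=
    T.mapIso d ≪≫ (T.commShiftIso (-i)).app _ ≪≫ (shiftFunctor _ (-i)).mapIso u
  let cZ : (DCoh.Lpull π).obj S ≅ O₁⟦-i⟧ := (DCoh.Lpull π).mapIso cS ≪≫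
    ((DCoh.Lpull π).commShiftIso (-i)).app _ ≪≫ (shiftFunctor _ (-i)).mapIso (cπ ≪≫ cW.symm)
  let cR' : (DCoh.Rpush hV.isoSpec.hom).obj ((DCoh.Rpush fV).obj ((DCoh.Lpull π).obj S)) ≅
      ((DCoh.Rpush π).obj O₁)⟦-i⟧ :=
    (BC.cR (rfl : fV ≫ hV.isoSpec.hom = π)).app _ ≪≫ (DCoh.Rpush π).mapIso cZ ≪≫
      ((DCoh.Rpush π).commShiftIso (-i)).app _
  haveI := isEquivalence_Rpush hV.isoSpec
  haveI : (DCoh.Lpull hV.isoSpec.hom).IsEquivalence :=
    (BC.adj hV.isoSpec.hom).isEquivalence_left_of_isEquivalence_right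
  obtain ⟨ce⟩ := BCAdj.nonempty_Lpull_OD hV.isoSpec.hom
  let cO : (DCoh.Rpush hV.isoSpec.hom).obj OV.obj ≅ T0 :=
    (DCoh.Rpush hV.isoSpec.hom).mapIso (eO ≪≫ ce.symm) ≪≫
      (asIso ((BC.adj hV.isoSpec.hom).unit.app _)).symm ≪≫ u.symm
  -- transport
  let Z : DCoh.DQCoh (W : Scheme.{u}) :=
    ⟨(DCoh.Lpull π).obj S, isQCohD_Lpull π ((TildeD.isQCohD_iff _).2 ⟨_, ⟨Iso.refl _⟩⟩)⟩
  have h0 : Subsingleton (((DCoh.Rpush π).obj O₁)⟦-i⟧ ⟶ T0) :=
    subsingleton_of_forall_eq 0 fun ψ => hom_push_eq_zero (A := Γ(Y, V)) π hi ψ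
  have h1 : Subsingleton ((DCoh.Rpush fV).obj Z.obj ⟶ OV.obj) := ⟨fun x y =>
    (DCoh.Rpush hV.isoSpec.hom).map_injective ((cR'.homCongr cO).injective (h0.elim _ _))⟩
  have h2 : Subsingleton ((DCoh.RpushQ fV hfV).obj Z ⟶ OV) := ⟨fun x y => ObjectProperty.hom_ext _ (h1.elim _ _)⟩
  haveI : Subsingleton (Z ⟶ aV.obj OV) := (adjV.homEquiv Z OV).symm.subsingleton
  have h3 : Subsingleton ((DCoh.Lpull π).obj S ⟶ N) := ⟨fun x y => by
    have := Subsingleton.elim (ObjectProperty.homMk (x ≫ eN.inv) : Z ⟶ aV.obj OV)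
      (ObjectProperty.homMk (y ≫ eN.inv))
    exact (cancel_mono eN.inv).1 (congrArg (fun k => k.hom) this)⟩
  have h4 : Subsingleton (S ⟶ (DCoh.Rpush π).obj N) := ((BC.adj π).homEquiv S N).symm.subsingleton
  exact T.map_injective ((cancel_mono e₀.hom).1 (h4.elim _ _))

include adj in
/-- `Rf_* a O` has no cohomology in positive degrees -/
theorem isZero_HD_push [CompactSpace X] [QuasiSeparatedSpace X]
    (hO : Nonempty (O.obj ≅ DCoh.inD Y (Coh.structureModule Y))) {i : ℤ} (hi : 0 < i) :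
    IsZero (DCoh.HD ((DCoh.Rpush f).obj (a.obj O).obj) i) := by
  refine Groth.L21.Mod.isZero_of_restrict (fun V : Y.affineOpens => V.1.ι) (fun y => ?_) _ fun V => ?_
  · obtain ⟨_, ⟨V, hV, rfl⟩, hy, -⟩ :=
      Y.isBasis_affineOpens.exists_subset_of_mem_open (Set.mem_univ y) isOpen_univ
    exact ⟨⟨V, hV⟩, ⟨y, hy⟩, rfl⟩
  · exact (hom_restrict_eq_zero f adj O hO V.1 V.2 hi).of_iso (HDResIso V.1.ι _ i).symm

end Groth.Lead.SelfHom
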