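import Groth.Agent.Lead.SelfHom.Main

/-!
The map `O ⟶ RHom(E, E)` adjoint to the unit, for a complex `E` representing `a(O)`.
-/

set_option autoImplicit false
set_option linter.style.haveILetI false
set_option backward.defeqAttrib.useBackward true
set_option backward.isDefEq.respectTransparency false
set_option backward.isDefEq.respectTransparency.types false

universe v v₁ v₂ u u₁ u₂

open CategoryTheory CategoryTheory.Limits AlgebraicGeometry CochainComplex

attribute [local instance] HasDerivedCategory.standard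

noncomputable section

namespace Groth.Lead.SelfHom

open Groth.L00 Groth.L29.DC Groth.L29.BC

/-- invertibility of a transpose from bijectivity of `φ ↦ G φ ≫ w` -/
theorem isIso_homEquiv {C : Type u₁} [Category.{v₁} C] {D : Type u₂} [Category.{v₂} D] {G : C ⥤ D} {R : D ⥤ C}
    (b : G ⊣ R) {O O' : C} (c : O' ≅ O) {K K' : D} (w : G.obj O ⟶ K) [IsIso w]
    (hw : ∀ M : C, Function.Bijective fun φ : M ⟶ O => G.map φ ≫ w) (υ : G.obj O' ⟶ K') [IsIso υ] :
    IsIso (b.homEquiv O' K' υ) := by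
  haveI : IsIso (b.homEquiv O K w) := by
    refine isIso_of_yoneda_map_bijective _ fun M => ?_
    have : (fun φ : M ⟶ O => φ ≫ b.homEquiv O K w) = b.homEquiv M K ∘ fun φ => G.map φ ≫ w := by
      funext φ
      exact (b.homEquiv_naturality_left φ w).symm
    rw [this]
    exact (b.homEquiv M K).bijective.comp (hw M)
  have h : υ = G.map c.hom ≫ w ≫ (inv w ≫ G.map c.inv ≫ υ) := by
    simp [← Functor.map_comp_assoc]
  rw [h, b.homEquiv_naturality_left, b.homEquiv_naturality_right]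
  infer_instance

variable {X : Scheme.{u}} (J : CochainComplex X.Modules ℤ) [J.IsKInjective]

/-- the transpose of the unit pulled back along a map -/
theorem tr_uu_m {C : Type u₁} [Category.{v₁} C] [Abelian C] (T : CochainComplex C ℤ ⥤ CochainComplex C ℤ ⥤ CochainComplex C ℤ)
    [∀ X, (T.flip.obj X).IsLeftAdjoint] (O : CochainComplex C ℤ) (U : T.obj O ≅ 𝟭 _) {F J : CochainComplex C ℤ}
    (q : F ⟶ J) :
    ((HomCx.adj T.flip F).homEquiv O J).symm (Gen.uu T O U J ≫ HomCx.m T.flip q J) = U.hom.app F ≫ q := by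
  rw [HomCx.symm_comp_m, Gen.uu, Equiv.symm_apply_apply]
  exact U.hom.naturality q

/-- composing a universal element with an isomorphism -/
theorem bij_comp {C : Type u₁} [Category.{v₁} C] {D : Type u₂} [Category.{v₂} D] (G : C ⥤ D) {H O : C} {K : D}
    (ε : G.obj H ⟶ K) (hb : ∀ M : C, Function.Bijective fun η : M ⟶ H => G.map η ≫ ε) (v : O ⟶ H) [IsIso v]
    {w : G.obj O ⟶ K} (hw : G.map v ≫ ε = w) (M : C) :
    Function.Bijective fun φ : M ⟶ O => G.map φ ≫ w := by
  have h : (fun φ : M ⟶ O => G.map φ ≫ w) = (fun η : M ⟶ H => G.map η ≫ ε) ∘ (asIso v).homToEquiv := by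
    funext φ
    simp [← hw]
  rw [h]
  exact (hb M).comp (asIso v).homToEquiv.bijective

/-- naturality against a counit -/
theorem nat_counit {C : Type u₁} [Category.{v₁} C] {D : Type u₂} [Category.{v₂} D] {Q : C ⥤ D} {G : D ⥤ D}
    {T : C ⥤ C} (e : Q ⋙ G ≅ T ⋙ Q) {A B J : C} (ξ : A ⟶ B) (ε : T.obj B ⟶ J) :
    G.map (Q.map ξ) ≫ e.hom.app B ≫ Q.map ε = e.hom.app A ≫ Q.map (T.map ξ ≫ ε) := by
  have h := e.hom.naturality ξ
  simp only [Functor.comp_map] at h
  rw [← Category.assoc, h, Category.assoc, Functor.map_comp]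

set_option maxHeartbeats 800000 in
/-- from the unit on complexes to the derived adjunction -/
theorem exists_unit_bij {F : CochainComplex X.Modules ℤ} (hF : DCoh.IsKFlat F) [DCoh.HasLTensorCx F]
    (q : F ⟶ J) [QuasiIso q] (hu : IsIso (DerivedCategory.Q.map (uu J))) :
    ∃ w : (DCoh.LTensorCx F).obj (DerivedCategory.Q.obj (RHom.O0 X)) ⟶ DerivedCategory.Q.obj J, IsIso w ∧
      ∀ M : DCoh.D X, Function.Bijective fun φ : M ⟶ DerivedCategory.Q.obj (RHom.O0 X) =>
        (DCoh.LTensorCx F).map φ ≫ w := by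
  haveI := QRlim.enoughKInj X
  haveI := hu
  haveI := isIso_Q_mR (J := J) q
  haveI : ((Eval.PhiR X).obj F).Additive := (Eval.dataR X).additive F
  haveI := (DerivedCategory.isIso_Q_map_iff_quasiIso _ q).2 inferInstance
  let e := Assoc.allIso F hF
  have hb := fun M => DerRight.bijective_comp (HomCx.adj (Eval.PhiR X) F) ((Eval.dataR X).retractObj F)
    (RHom.acyclic_flip hF) (DCoh.LTensorCx F) e J M
  haveI : IsIso (DerivedCategory.Q.map (uu J ≫ HomCx.m (Eval.PhiR X) q J)) := by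
    rw [Functor.map_comp]
    infer_instance
  have h1 : tr (Eval.PhiR X) (uu J ≫ HomCx.m (Eval.PhiR X) q J) = (unitT X).hom.app F ≫ q :=
    tr_uu_m (Eval.PhiL X) (RHom.O0 X) (unitT X) q
  haveI : IsIso (DerivedCategory.Q.map (tr (Eval.PhiR X) (uu J ≫ HomCx.m (Eval.PhiR X) q J))) := by
    rw [h1, Functor.map_comp]
    infer_instance
  have h2 := nat_counit e (uu J ≫ HomCx.m (Eval.PhiR X) q J) ((HomCx.adj (Eval.PhiR X) F).counit.app J)
  have h3 := h2.trans (congrArg (fun z => e.hom.app (RHom.O0 X) ≫ DerivedCategory.Q.map z)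
    ((HomCx.adj (Eval.PhiR X) F).homEquiv_counit _ _ (uu J ≫ HomCx.m (Eval.PhiR X) q J)).symm)
  refine ⟨e.hom.app (RHom.O0 X) ≫ DerivedCategory.Q.map (tr (Eval.PhiR X) (uu J ≫ HomCx.m (Eval.PhiR X) q J)),
    inferInstance, ?_⟩
  exact bij_comp (DCoh.LTensorCx F) _ hb (DerivedCategory.Q.map (uu J ≫ HomCx.m (Eval.PhiR X) q J)) h3

variable {Y : Scheme.{u}} [CompactSpace X] [QuasiSeparatedSpace X] (f : X ⟶ Y) [QuasiCompact f] [QuasiSeparated f]
  [DCoh.HasRpush f] {hf : DCoh.RpushPreservesQCoh f} {a : DCoh.DQCoh Y ⥤ DCoh.DQCoh X}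
  (adj : DCoh.RpushQ f hf ⊣ a) (O : DCoh.DQCoh Y)

set_option maxHeartbeats 1600000 in
set_option synthInstance.maxHeartbeats 200000 in
include adj in
/-- `O ⟶ RHom(a O, a O)` is invertible -/
theorem isIso_self (hO : Nonempty (O.obj ≅ DCoh.inD Y (Coh.structureModule Y)))
    (hperf : ∀ P : DCoh.D X, DCoh.IsPerfect P → DCoh.IsPerfect ((DCoh.Rpush f).obj P))
    (hpc : ∀ m, DCoh.IsPseudoCoherentD m (a.obj O).obj) (c₀ : ℤ) (hc : (a.obj O).obj.IsGE c₀)
    (E : CochainComplex X.Modules ℤ) (hE : Nonempty (DCoh.toD X E ≅ (a.obj O).obj))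
    [DCoh.HasLTensorCx E] [DCoh.HasRSheafHom E]
    (υ : (DCoh.LTensorCx E).obj (DCoh.inD X (Coh.structureModule X)) ≅ DCoh.toD X E) :
    IsIso (((DCoh.RSheafHomAdj E).homEquiv (DCoh.inD X (Coh.structureModule X)) (DCoh.toD X E)) υ.hom) := by
  haveI := fun {A B : Scheme.{u}} (k : A ⟶ B) => KFlat.hasLpull k
  obtain ⟨J, hJ, ⟨eJ⟩⟩ := EvalMain.exists_kinj (a.obj O).obj
  haveI : J.IsKInjective := hJ
  obtain ⟨Jy, i, hJy, hi⟩ := ProjFormulaD.exists_kinj (RHom.O0 Y)
  haveI : Jy.IsKInjective := hJy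
  haveI : QuasiIso i := hi
  haveI := (DerivedCategory.isIso_Q_map_iff_quasiIso _ i).2 hi
  obtain ⟨eO⟩ := hO
  let γ : O.obj ≅ DerivedCategory.Q.obj Jy :=
    eO ≪≫ ((DerivedCategory.singleFunctorIsoCompQ Y.Modules 0).app _) ≪≫ asIso (DerivedCategory.Q.map i)
  obtain ⟨t, ht⟩ := exists_trace_map f adj O J eJ Jy γ
  have hpsi := fun {I : CochainComplex X.Modules ℤ} [I.IsKInjective] (hI : DCoh.IsPerfect (DCoh.toD X I)) =>
    psi_source f adj O J eJ Jy i γ hperf ht hpc hI
  have hH : DCoh.IsQCohD (DerivedCategory.Q.obj ((HomCx.H (Eval.PhiR X) J).obj J)) := by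
    haveI := KFlat.hasLTensorCx J
    haveI := RHom.hasRSheafHom J
    obtain ⟨e⟩ := EvalMain.nonempty_RSheafHom J J
    haveI : (DerivedCategory.Q.obj J).IsGE c₀ := DerivedCategory.TStructure.t.isGE_of_iso eJ.symm c₀
    exact isQCohD_of_iso e.symm (SupportAdj.qcoh_RHom_of_pc (fun m => isPseudoCoherentD_of_iso eJ.symm (hpc m))
      (isQCohD_of_iso eJ.symm (a.obj O).property) c₀ inferInstance)
  have hu : IsIso (DerivedCategory.Q.map (uu J)) := by
    refine isIso_uu_of_UB J hH fun N hN hNp => ?_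
    obtain ⟨I, r, hI, hr⟩ := ProjFormulaD.exists_kinj N
    haveI : I.IsKInjective := hI
    haveI : QuasiIso r := hr
    haveI := (DerivedCategory.isIso_Q_map_iff_quasiIso _ r).2 hr
    exact (psi_iff_UB J r hN hNp).1 (hpsi (isPerfect_of_iso (asIso (DerivedCategory.Q.map r)) hNp))
  haveI := KFlat.quasiIso_rF (Y := X) J
  let F := (KFlat.RF X).obj J
  haveI := KFlat.hasLTensorCx F
  obtain ⟨w, hw, hbij⟩ := exists_unit_bij J (KFlat.isKFlat_RF J) ((KFlat.rF X).app J) hu
  haveI := hw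
  haveI := (DerivedCategory.isIso_Q_map_iff_quasiIso _ ((KFlat.rF X).app J)).2 inferInstance
  obtain ⟨eE⟩ := hE
  obtain ⟨θ⟩ := RHom.nonempty_lt_iso (E := E) (E' := F)
    (eE ≪≫ eJ.symm ≪≫ (asIso (DerivedCategory.Q.map ((KFlat.rF X).app J))).symm)
  refine isIso_homEquiv (DCoh.RSheafHomAdj E) ((DerivedCategory.singleFunctorIsoCompQ X.Modules 0).app _)
    (θ.hom.app _ ≫ w) (fun M => ?_) υ.hom
  have h : (fun φ : M ⟶ DerivedCategory.Q.obj (RHom.O0 X) =>
      (DCoh.LTensorCx E).map φ ≫ θ.hom.app _ ≫ w) =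
      (fun z => θ.hom.app M ≫ z) ∘ fun φ => (DCoh.LTensorCx F).map φ ≫ w := by
    funext φ
    simp only [Function.comp_apply, θ.hom.naturality_assoc]
  refine Eq.mpr (congrArg Function.Bijective h) ?_
  exact (θ.app M).symm.homFromEquiv.bijective.comp (hbij M)

end Groth.Lead.SelfHom
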