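import Groth.Agent.L29.DCoh.EvalMain

/-!
Maps out of K-flat complexes into internal Hom complexes, in the derived category, through their transposes.
-/

set_option autoImplicit false
set_option linter.style.haveILetI false
set_option backward.defeqAttrib.useBackward true
set_option backward.isDefEq.respectTransparency false
set_option backward.isDefEq.respectTransparency.types false

universe v u

open CategoryTheory CategoryTheory.Limits AlgebraicGeometry CochainComplex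

attribute [local instance] HasDerivedCategory.standard

noncomputable section

namespace Groth.Lead.SelfHom

open Groth.L00 Groth.L29.DC

section General

variable {X : Scheme.{u}}
  {Φ : CochainComplex X.Modules ℤ ⥤ CochainComplex X.Modules ℤ ⥤ CochainComplex X.Modules ℤ}
  [∀ E, (Φ.obj E).IsLeftAdjoint]

/-- the transpose -/
abbrev tr (Φ : CochainComplex X.Modules ℤ ⥤ CochainComplex X.Modules ℤ ⥤ CochainComplex X.Modules ℤ)
    [∀ E, (Φ.obj E).IsLeftAdjoint] {A P J : CochainComplex X.Modules ℤ} (ξ : P ⟶ (HomCx.H Φ A).obj J) :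
    (Φ.obj A).obj P ⟶ J :=
  ((HomCx.adj Φ A).homEquiv P J).symm ξ

/-- the inverse of the transpose -/
abbrev untr (Φ : CochainComplex X.Modules ℤ ⥤ CochainComplex X.Modules ℤ ⥤ CochainComplex X.Modules ℤ)
    [∀ E, (Φ.obj E).IsLeftAdjoint] {A P J : CochainComplex X.Modules ℤ} (v : (Φ.obj A).obj P ⟶ J) :
    P ⟶ (HomCx.H Φ A).obj J :=
  (HomCx.adj Φ A).homEquiv P J v

theorem tr_untr {A P J : CochainComplex X.Modules ℤ} (v : (Φ.obj A).obj P ⟶ J) : tr Φ (untr Φ v) = v :=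
  Equiv.symm_apply_apply _ _

theorem tr_comp_m {A A' P J : CochainComplex X.Modules ℤ} (g : A' ⟶ A) (ξ : P ⟶ (HomCx.H Φ A).obj J) :
    tr Φ (ξ ≫ HomCx.m Φ g J) = (Φ.map g).app P ≫ tr Φ ξ :=
  HomCx.symm_comp_m Φ g ξ

theorem tr_comp {A P P' J : CochainComplex X.Modules ℤ} (a : P ⟶ P') (ξ : P' ⟶ (HomCx.H Φ A).obj J) :
    tr Φ (a ≫ ξ) = (Φ.obj A).map a ≫ tr Φ ξ :=
  (HomCx.adj Φ A).homEquiv_naturality_left_symm a ξ

theorem tr_injective {A P J : CochainComplex X.Modules ℤ} {ξ ξ' : P ⟶ (HomCx.H Φ A).obj J}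
    (h : tr Φ ξ = tr Φ ξ') : ξ = ξ' :=
  ((HomCx.adj Φ A).homEquiv P J).symm.injective h

theorem m_comp {A B C J : CochainComplex X.Modules ℤ} (g : A ⟶ B) (h : B ⟶ C) :
    HomCx.m Φ h J ≫ HomCx.m Φ g J = HomCx.m Φ (g ≫ h) J := by
  rw [HomCx.m, HomCx.m, HomCx.m, EvalAbs.mate_comp, ← Φ.map_comp]

theorem m_id (A J : CochainComplex X.Modules ℤ) : HomCx.m Φ (𝟙 A) J = 𝟙 _ := by
  rw [HomCx.m, Φ.map_id, EvalAbs.mate_id]

variable (d : HomCx.Data Φ) {J : CochainComplex X.Modules ℤ} [J.IsKInjective]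
  (hac : ∀ K : CochainComplex X.Modules ℤ, K.Acyclic → ((HomCx.H Φ K).obj J).Acyclic)

include d hac in
/-- internal Hom into a K-injective complex inverts quasi-isomorphisms -/
theorem isIso_Q_m {K K' : CochainComplex X.Modules ℤ} (g : K ⟶ K') [QuasiIso g] :
    IsIso (DerivedCategory.Q.map (HomCx.m Φ g J)) := by
  let S₁ := mappingCone.triangleRotateShortComplex (𝟙 K)
  let S₂ := mappingCone.triangleRotateShortComplex g
  let c : mappingCone (𝟙 K) ⟶ mappingCone g := mappingCone.map (𝟙 K) g (𝟙 K) g (by simp)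
  have hτ : ∀ (S : ShortComplex (CochainComplex X.Modules ℤ))
      (σ : ∀ n, (S.map (HomologicalComplex.eval X.Modules (ComplexShape.up ℤ) n)).Splitting),
      (HomCx.homSC d S J).ShortExact := fun S σ =>
    HomologicalComplex.shortExact_of_degreewise_shortExact _ fun n => (HomCx.homSplit d S σ J n).shortExact
  have hacy : ∀ {L L' : CochainComplex X.Modules ℤ} (h : L ⟶ L') [QuasiIso h],
      ((HomCx.H Φ (mappingCone h)).obj J).Acyclic := fun h _ =>
    hac _ fun i => (HomologicalComplex.exactAt_iff_isZero_homology _ _).2 (ConeTransfer.acyclic_cone h i)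
  let φ : HomCx.homSC d S₂ J ⟶ HomCx.homSC d S₁ J :=
    { τ₁ := HomCx.m Φ (𝟙 _) J
      τ₂ := HomCx.m Φ c J
      τ₃ := HomCx.m Φ g J
      comm₁₂ := by
        have h : c ≫ S₂.g = S₁.g ≫ 𝟙 _ :=
          ((mappingCone.triangleMap (𝟙 K) g (𝟙 K) g (by simp)).comm₃.symm.trans (by simp [S₁]))
        exact ((m_comp (J := J) _ _).trans ((congrArg (fun t => HomCx.m Φ t J) h.symm).trans (m_comp _ _).symm))
      comm₂₃ := by
        have h : g ≫ S₂.f = S₁.f ≫ c := (mappingCone.triangleMap (𝟙 K) g (𝟙 K) g (by simp)).comm₂.symm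
        exact ((m_comp (J := J) _ _).trans ((congrArg (fun t => HomCx.m Φ t J) h.symm).trans (m_comp _ _).symm)) }
  haveI : IsIso (DerivedCategory.Q.map φ.τ₁) := by
    haveI : IsIso φ.τ₁ := by
      change IsIso (HomCx.m Φ (𝟙 S₂.X₃) J)
      rw [m_id]
      infer_instance
    infer_instance
  haveI : IsIso (DerivedCategory.Q.map φ.τ₂) :=
    (EvalLocal.isZero_Q_of_acyclic (hacy g)).isIso (EvalLocal.isZero_Q_of_acyclic (hacy (𝟙 K))) _
  exact (EvalLocal.isIso_tri (hτ S₂ (mappingCone.triangleRotateShortComplexSplitting g))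
    (hτ S₁ (mappingCone.triangleRotateShortComplexSplitting (𝟙 K))) φ).1 ‹_› ‹_›

variable {A' A P : CochainComplex X.Modules ℤ} (q : A' ⟶ A) [QuasiIso q]
  (hA' : ∀ L : CochainComplex X.Modules ℤ, L.Acyclic → ((Φ.obj A').obj L).Acyclic)
  (hP : QuasiIso ((Φ.map q).app P))
  (hh : ∀ {P P' : CochainComplex X.Modules ℤ} {a b : P ⟶ P'}, Homotopy a b →
    Nonempty (Homotopy ((Φ.obj A').map a) ((Φ.obj A').map b)))

include d hac hA' hP hh in
theorem Q_tr_eq_iff (ξ ξ' : P ⟶ (HomCx.H Φ A).obj J) :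
    DerivedCategory.Q.map ξ = DerivedCategory.Q.map ξ' ↔
      DerivedCategory.Q.map (tr Φ ξ) = DerivedCategory.Q.map (tr Φ ξ') := by
  haveI := isIso_Q_m d hac q
  haveI := hP
  haveI : IsIso (DerivedCategory.Q.map ((Φ.map q).app P)) :=
    (DerivedCategory.isIso_Q_map_iff_quasiIso _ _).2 hP
  haveI := d.additive A'
  haveI := DerRight.isKInjective (HomCx.adj Φ A') (d.retractObj A') hA' J
  have key : ∀ ξ : P ⟶ (HomCx.H Φ A).obj J, DerivedCategory.Q.map (tr Φ (ξ ≫ HomCx.m Φ q J)) =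
      DerivedCategory.Q.map ((Φ.map q).app P) ≫ DerivedCategory.Q.map (tr Φ ξ) := fun ξ => by
    rw [tr_comp_m, Functor.map_comp]
  rw [← cancel_mono (DerivedCategory.Q.map (HomCx.m Φ q J)), ← Functor.map_comp, ← Functor.map_comp,
    ← cancel_epi (DerivedCategory.Q.map ((Φ.map q).app P)), ← key, ← key]
  have hc : ∀ ζ : P ⟶ (HomCx.H Φ A').obj J,
      tr Φ ζ = (Φ.obj A').map ζ ≫ (HomCx.adj Φ A').counit.app J := fun ζ =>
    (HomCx.adj Φ A').homEquiv_counit _ _ _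
  refine ⟨fun h => ?_, fun h => ?_⟩
  · obtain ⟨t⟩ := DerAdj.homotopic_of_Q_map_eq h
    obtain ⟨t'⟩ := hh t
    rw [hc, hc]
    exact DerivedCategory.Q_map_eq_of_homotopy _ (t'.compRight _)
  · obtain ⟨t⟩ := DerAdj.homotopic_of_Q_map_eq h
    obtain ⟨t0⟩ := DerRight.null_of_null (HomCx.adj Φ A') (d.retractObj A')
      (ξ ≫ HomCx.m Φ q J - ξ' ≫ HomCx.m Φ q J)
      (by
        rw [hc, hc] at t
        exact (Homotopy.ofEq (by rw [Functor.map_sub, Preadditive.sub_comp])).trans (Homotopy.equivSubZero t))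
    exact DerivedCategory.Q_map_eq_of_homotopy _ ((Homotopy.equivSubZero).symm t0)

include d hac hA' hP hh in
theorem exists_Q_map (e : DerivedCategory.Q.obj P ⟶ DerivedCategory.Q.obj ((HomCx.H Φ A).obj J)) :
    ∃ ξ : P ⟶ (HomCx.H Φ A).obj J, DerivedCategory.Q.map ξ = e := by
  haveI := isIso_Q_m d hac q
  haveI : IsIso (DerivedCategory.Q.map ((Φ.map q).app P)) :=
    (DerivedCategory.isIso_Q_map_iff_quasiIso _ _).2 hP
  haveI := d.additive A'
  haveI := DerRight.isKInjective (HomCx.adj Φ A') (d.retractObj A') hA' J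
  obtain ⟨ζ, hζ⟩ := DerAdj.exists_Q_map (e ≫ DerivedCategory.Q.map (HomCx.m Φ q J))
  obtain ⟨v, hv⟩ := DerAdj.exists_Q_map
    (inv (DerivedCategory.Q.map ((Φ.map q).app P)) ≫ DerivedCategory.Q.map (tr Φ ζ))
  refine ⟨untr Φ v, (cancel_mono (DerivedCategory.Q.map (HomCx.m Φ q J))).1 ?_⟩
  rw [← hζ, ← Functor.map_comp]
  have hA'' : QuasiIso ((Φ.map (𝟙 A')).app P) := by rw [Φ.map_id, NatTrans.id_app]; infer_instance
  refine (Q_tr_eq_iff d hac (𝟙 A') hA' hA'' hh _ _).2 ?_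
  rw [tr_comp_m, tr_untr, Functor.map_comp, hv, IsIso.hom_inv_id_assoc]

end General

section Special

variable {X : Scheme.{u}} (J : CochainComplex X.Modules ℤ) [J.IsKInjective]

local notation "cxs" => CochainComplex X.Modules ℤ
local notation "𝐋" => Eval.PhiL X
local notation "𝐑" => Eval.PhiR X

theorem acyclic_HR (K : CochainComplex X.Modules ℤ) (hK : K.Acyclic) : ((HomCx.H 𝐑 K).obj J).Acyclic :=
  EvalMain.acyclic_H J K hK

theorem test_L (K : CochainComplex X.Modules ℤ) (hK : K.Acyclic) (T : X.Modules) :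
    ∃ (F : X.Modules) (p : F ⟶ T), Epi p ∧ ∀ n : ℤ, ((𝐋.obj K).obj
      ((HomologicalComplex.single X.Modules (ComplexShape.up ℤ) n).obj ((𝟭 X.Modules).obj F))).Acyclic := by
  obtain ⟨F, p, hp, h⟩ := EvalMain.test_id K hK T
  exact ⟨F, p, hp, fun n => Eval.acyclic_of_iso ((RHom.flipIso K).app _).symm (h n)⟩

theorem acyclic_HL (K : CochainComplex X.Modules ℤ) (hK : K.Acyclic) : ((HomCx.H 𝐋 K).obj J).Acyclic :=
  Eval.acyclic_of_iso ((EvalMain.hIso K).app J).symm (EvalMain.acyclic_H J K hK)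

theorem homotopy_L (A : CochainComplex X.Modules ℤ) {P P' : CochainComplex X.Modules ℤ} {a b : P ⟶ P'}
    (h : Homotopy a b) : Nonempty (Homotopy ((𝐋.obj A).map a) ((𝐋.obj A).map b)) :=
  ⟨KFlat.tensorHomotopy A h⟩

theorem homotopy_R (A : CochainComplex X.Modules ℤ) {P P' : CochainComplex X.Modules ℤ} {a b : P ⟶ P'}
    (h : Homotopy a b) : Nonempty (Homotopy ((𝐑.obj A).map a) ((𝐑.obj A).map b)) := by
  have e : ∀ c : P ⟶ P', (KFlat.commIso P A).inv ≫ (KFlat.T A).map c ≫ (KFlat.commIso P' A).hom =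
      (𝐑.obj A).map c := fun c => by
    rw [KFlat.commIso_natural, Iso.inv_hom_id_assoc]
    rfl
  exact ⟨(Homotopy.ofEq (e a).symm).trans
    (((((KFlat.tensorHomotopy A h).compRight _).compLeft _)).trans (Homotopy.ofEq (e b)))⟩

theorem quasiIso_map_L {A A' P : CochainComplex X.Modules ℤ} (hP : DCoh.IsKFlat P) (q : A' ⟶ A) [QuasiIso q] :
    QuasiIso ((𝐋.map q).app P) :=
  KFlat.quasiIso_tensor_of_kflat P hP q

theorem quasiIso_map_R {A A' P : CochainComplex X.Modules ℤ} (hP : DCoh.IsKFlat P) (q : A' ⟶ A) [QuasiIso q] :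
    QuasiIso ((𝐑.map q).app P) := by
  haveI := KFlat.quasiIso_tensor_of_kflat P hP q
  have h : QuasiIso ((KFlat.commIso A' P).hom ≫ ((DCoh.tensorCx (X := X)).map q).app P) := inferInstance
  rw [← KFlat.commIso_natural] at h
  exact quasiIso_of_comp_right ((KFlat.T P).map q) (KFlat.commIso A P).hom

theorem acyclic_obj_R {A : CochainComplex X.Modules ℤ} (hA : DCoh.IsKFlat A) (L : CochainComplex X.Modules ℤ)
    (hL : L.Acyclic) : ((𝐑.obj A).obj L).Acyclic :=
  RHom.acyclic_flip hA L hL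

theorem acyclic_obj_L {A : CochainComplex X.Modules ℤ} (hA : DCoh.IsKFlat A) (L : CochainComplex X.Modules ℤ)
    (hL : L.Acyclic) : ((𝐋.obj A).obj L).Acyclic :=
  Eval.acyclic_of_iso ((RHom.flipIso A).app L).symm (RHom.acyclic_flip hA L hL)

variable {J}

theorem isIso_Q_mR {K K' : cxs} (g : K ⟶ K') [QuasiIso g] : IsIso (DerivedCategory.Q.map (HomCx.m 𝐑 g J)) :=
  isIso_Q_m (Eval.dataR X) (acyclic_HR J) g

theorem isIso_Q_mL {K K' : cxs} (g : K ⟶ K') [QuasiIso g] : IsIso (DerivedCategory.Q.map (HomCx.m 𝐋 g J)) :=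
  isIso_Q_m (Eval.dataL X) (acyclic_HL J) g

variable {A P : CochainComplex X.Modules ℤ} (hP : DCoh.IsKFlat P)

theorem exists_resol (A : CochainComplex X.Modules ℤ) :
    ∃ (A' : CochainComplex X.Modules ℤ) (q : A' ⟶ A), QuasiIso q ∧ DCoh.IsKFlat A' :=
  ⟨(KFlat.RF X).obj A, (KFlat.rF X).app A, KFlat.quasiIso_rF (Y := X) A, KFlat.isKFlat_RF A⟩


include hP in
theorem Q_trR_eq_iff (ξ ξ' : P ⟶ (HomCx.H 𝐑 A).obj J) :
    DerivedCategory.Q.map ξ = DerivedCategory.Q.map ξ' ↔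
      DerivedCategory.Q.map (tr 𝐑 ξ) = DerivedCategory.Q.map (tr 𝐑 ξ') :=
  let ⟨_, q, hq, hA'⟩ := exists_resol A
  haveI := hq
  Q_tr_eq_iff (Eval.dataR X) (acyclic_HR J) q (acyclic_obj_R hA')
    (quasiIso_map_R hP q) (fun h => homotopy_R _ h) ξ ξ'

include hP in
theorem Q_trL_eq_iff (ξ ξ' : P ⟶ (HomCx.H 𝐋 A).obj J) :
    DerivedCategory.Q.map ξ = DerivedCategory.Q.map ξ' ↔
      DerivedCategory.Q.map (tr 𝐋 ξ) = DerivedCategory.Q.map (tr 𝐋 ξ') :=
  let ⟨_, q, hq, hA'⟩ := exists_resol A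
  haveI := hq
  Q_tr_eq_iff (Eval.dataL X) (acyclic_HL J) q (acyclic_obj_L hA')
    (quasiIso_map_L hP q) (fun h => homotopy_L _ h) ξ ξ'

include hP in
theorem exists_trR (e : DerivedCategory.Q.obj P ⟶ DerivedCategory.Q.obj ((HomCx.H 𝐑 A).obj J)) :
    ∃ ξ : P ⟶ (HomCx.H 𝐑 A).obj J, DerivedCategory.Q.map ξ = e :=
  let ⟨_, q, hq, hA'⟩ := exists_resol A
  haveI := hq
  exists_Q_map (Eval.dataR X) (acyclic_HR J) q (acyclic_obj_R hA')
    (quasiIso_map_R hP q) (fun h => homotopy_R _ h) e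

include hP in
theorem exists_trL (e : DerivedCategory.Q.obj P ⟶ DerivedCategory.Q.obj ((HomCx.H 𝐋 A).obj J)) :
    ∃ ξ : P ⟶ (HomCx.H 𝐋 A).obj J, DerivedCategory.Q.map ξ = e :=
  let ⟨_, q, hq, hA'⟩ := exists_resol A
  haveI := hq
  exists_Q_map (Eval.dataL X) (acyclic_HL J) q (acyclic_obj_L hA')
    (quasiIso_map_L hP q) (fun h => homotopy_L _ h) e

end Special

end Groth.Lead.SelfHom
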