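import Mathlib.CategoryTheory.Adjunction.Basic
import Mathlib.CategoryTheory.Functor.Currying

/-!
The pairing attached to a projection map, for abstract closed bifunctors.
-/

set_option autoImplicit false

universe v v' u u'

open CategoryTheory

noncomputable section

namespace Groth.Lead.SelfHom.Pair

variable {C : Type u} [Category.{v} C] {D : Type u'} [Category.{v'} D]
  {P : D ⥤ C} {U : C ⥤ D} (a : P ⊣ U) (L : C ⥤ C ⥤ C) [∀ G, (L.obj G).IsLeftAdjoint]
  (M : D ⥤ D ⥤ D) [∀ G, (M.obj G).IsLeftAdjoint]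
  (π : ∀ (G : C) (Z : D), (M.obj (U.obj G)).obj Z ⟶ U.obj ((L.obj G).obj (P.obj Z)))
  (π₁ : ∀ {G G' : C} (x : G ⟶ G') (Z : D),
    (M.map (U.map x)).app Z ≫ π G' Z = π G Z ≫ U.map ((L.map x).app (P.obj Z)))
  (π₂ : ∀ (G : C) {Z Z' : D} (z : Z ⟶ Z'),
    (M.obj (U.obj G)).map z ≫ π G Z' = π G Z ≫ U.map ((L.obj G).map (P.map z)))
  (J : C) {Jy : D} (t : U.obj J ⟶ Jy)

/-- the pairing -/
def pp (G : C) : (M.obj (U.obj G)).obj (U.obj ((L.obj G).rightAdjoint.obj J)) ⟶ Jy :=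
  π G (U.obj ((L.obj G).rightAdjoint.obj J)) ≫
    U.map ((L.obj G).map (a.counit.app ((L.obj G).rightAdjoint.obj J)) ≫
      (Adjunction.ofIsLeftAdjoint (L.obj G)).counit.app J) ≫ t

/-- the adjoint of the pairing -/
def cc (G : C) : U.obj ((L.obj G).rightAdjoint.obj J) ⟶ (M.obj (U.obj G)).rightAdjoint.obj Jy :=
  (Adjunction.ofIsLeftAdjoint (M.obj (U.obj G))).homEquiv _ _ (pp a L M π J t G)

include π₂ in
theorem tr_cc (G : C) {Z : D} (b : P.obj Z ⟶ (L.obj G).rightAdjoint.obj J) :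
    ((Adjunction.ofIsLeftAdjoint (M.obj (U.obj G))).homEquiv Z Jy).symm (a.homEquiv _ _ b ≫ cc a L M π J t G) =
      π G Z ≫ U.map (((Adjunction.ofIsLeftAdjoint (L.obj G)).homEquiv _ _).symm b) ≫ t := by
  rw [Adjunction.homEquiv_naturality_left_symm, cc, Equiv.symm_apply_apply, pp, reassoc_of% (π₂ G),
    ← Functor.map_comp_assoc, ← Functor.map_comp_assoc]
  erw [← a.homEquiv_counit, Equiv.symm_apply_apply, ← Adjunction.homEquiv_counit]
  rfl

/-- the constant -/
def c0 (O : D) : U.obj ((L.obj (P.obj O)).rightAdjoint.obj J) ⟶ (M.obj O).rightAdjoint.obj Jy :=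
  (Adjunction.ofIsLeftAdjoint (M.obj O)).homEquiv _ _
    ((M.map (a.unit.app O)).app _ ≫ pp a L M π J t (P.obj O))

include π₁ π₂ in
theorem cc_comp {O : D} {G : C} (x : P.obj O ⟶ G) :
    cc a L M π J t G ≫ (Adjunction.ofIsLeftAdjoint (M.obj O)).homEquiv _ _
        ((M.map (a.homEquiv _ _ x)).app _ ≫ (Adjunction.ofIsLeftAdjoint (M.obj (U.obj G))).counit.app Jy) =
      U.map ((Adjunction.ofIsLeftAdjoint (L.obj (P.obj O))).homEquiv _ _
        ((L.map x).app _ ≫ (Adjunction.ofIsLeftAdjoint (L.obj G)).counit.app J)) ≫ c0 a L M π J t O := by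
  let ax := Adjunction.ofIsLeftAdjoint (L.obj (P.obj O))
  let w := ax.homEquiv _ J ((L.map x).app _ ≫ (Adjunction.ofIsLeftAdjoint (L.obj G)).counit.app J)
  apply ((Adjunction.ofIsLeftAdjoint (M.obj O)).homEquiv _ _).symm.injective
  simp only [Adjunction.homEquiv_naturality_left_symm, Equiv.symm_apply_apply, c0]
  rw [NatTrans.naturality_assoc]
  erw [← (Adjunction.ofIsLeftAdjoint (M.obj (U.obj G))).homEquiv_counit]
  dsimp only [Functor.id_obj, Functor.comp_obj]
  rw [cc, Equiv.symm_apply_apply, Equiv.symm_apply_apply,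
    NatTrans.naturality_assoc, a.homEquiv_unit, Functor.map_comp M, NatTrans.comp_app, Category.assoc]
  refine congrArg (_ ≫ ·) ?_
  rw [pp, pp, reassoc_of% (π₁ x), reassoc_of% (π₂ (P.obj O))]
  refine congrArg (_ ≫ ·) ?_
  rw [← Functor.map_comp_assoc, ← Functor.map_comp_assoc]
  refine congrArg (fun v => U.map v ≫ t) ?_
  rw [← (L.obj (P.obj O)).map_comp_assoc]
  rw [show P.map (U.map w) ≫ a.counit.app _ = a.counit.app _ ≫ w from a.counit.naturality w]
  rw [Functor.map_comp, Category.assoc, ← NatTrans.naturality_assoc]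
  refine congrArg (_ ≫ ·) ?_
  exact ((ax.homEquiv _ J).symm_apply_apply _).symm.trans (ax.homEquiv_counit _ _ _)

end Groth.Lead.SelfHom.Pair
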