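import Groth.Agent.Lead.SelfHom.PushAdj
import Groth.Agent.L29.BC.PFNat

/-!
Direct images of internal Hom complexes and the projection map.
-/

set_option autoImplicit false
set_option linter.style.haveILetI false
set_option backward.defeqAttrib.useBackward true
set_option backward.isDefEq.respectTransparency false
set_option backward.isDefEq.respectTransparency.types false

universe v u

open CategoryTheory CategoryTheory.Limits AlgebraicGeometry CochainComplex HomologicalComplex

attribute [local instance] HasDerivedCategory.standard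

noncomputable section

namespace Groth.Lead.SelfHom

open Groth.L00 Groth.L29.DC Groth.L29.BC

variable {X Y : Scheme.{u}} (f : X ⟶ Y)

/-- direct images of internal Homs invert quasi-isomorphisms when they kill acyclic complexes -/
theorem isIso_Q_push_m {Φ : CochainComplex X.Modules ℤ ⥤ CochainComplex X.Modules ℤ ⥤ CochainComplex X.Modules ℤ}
    [∀ E, (Φ.obj E).IsLeftAdjoint] (d : HomCx.Data Φ) (J : CochainComplex X.Modules ℤ)
    [J.IsKInjective] (G : X.Modules ⥤ Y.Modules) [G.Additive]
    (hacy : ∀ K : CochainComplex X.Modules ℤ, K.Acyclic →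
      ((G.mapHomologicalComplex (ComplexShape.up ℤ)).obj ((HomCx.H Φ K).obj J)).Acyclic)
    {K K' : CochainComplex X.Modules ℤ} (g : K ⟶ K') [QuasiIso g] :
    IsIso (DerivedCategory.Q.map ((G.mapHomologicalComplex (ComplexShape.up ℤ)).map (HomCx.m Φ g J))) := by
  let S₁ := mappingCone.triangleRotateShortComplex (𝟙 K)
  let S₂ := mappingCone.triangleRotateShortComplex g
  let c : mappingCone (𝟙 K) ⟶ mappingCone g := mappingCone.map (𝟙 K) g (𝟙 K) g (by simp)
  have hτ : ∀ (S : ShortComplex (CochainComplex X.Modules ℤ))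
      (σ : ∀ n, (S.map (HomologicalComplex.eval X.Modules (ComplexShape.up ℤ) n)).Splitting),
      ((HomCx.homSC d S J).map (G.mapHomologicalComplex (ComplexShape.up ℤ))).ShortExact := fun S σ =>
    HomologicalComplex.shortExact_of_degreewise_shortExact _ fun n =>
      ((HomCx.homSplit d S σ J n).map G).shortExact
  have hcone : ∀ {L L' : CochainComplex X.Modules ℤ} (h : L ⟶ L') [QuasiIso h],
      ((G.mapHomologicalComplex (ComplexShape.up ℤ)).obj ((HomCx.H Φ (mappingCone h)).obj J)).Acyclic := fun h _ =>
    hacy _ fun i => (HomologicalComplex.exactAt_iff_isZero_homology _ _).2 (ConeTransfer.acyclic_cone h i)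
  let φ₀ : HomCx.homSC d S₂ J ⟶ HomCx.homSC d S₁ J :=
    { τ₁ := HomCx.m Φ (𝟙 _) J
      τ₂ := HomCx.m Φ c J
      τ₃ := HomCx.m Φ g J
      comm₁₂ := by
        have h : c ≫ S₂.g = S₁.g ≫ 𝟙 _ :=
          ((mappingCone.triangleMap (𝟙 K) g (𝟙 K) g (by simp)).comm₃.symm.trans (by simp [S₁]))
        exact ((m_comp (J := J) _ _).trans ((congrArg (fun t => HomCx.m Φ t J) h.symm).trans
          (m_comp _ _).symm))
      comm₂₃ := by
        have h : g ≫ S₂.f = S₁.f ≫ c := (mappingCone.triangleMap (𝟙 K) g (𝟙 K) g (by simp)).comm₂.symm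
        exact ((m_comp (J := J) _ _).trans ((congrArg (fun t => HomCx.m Φ t J) h.symm).trans
          (m_comp _ _).symm)) }
  let φ := (G.mapHomologicalComplex (ComplexShape.up ℤ)).mapShortComplex.map φ₀
  haveI : IsIso (DerivedCategory.Q.map φ.τ₁) := by
    haveI : IsIso φ₀.τ₁ := by
      change IsIso (HomCx.m Φ (𝟙 S₂.X₃) J)
      rw [m_id]
      infer_instance
    change IsIso (DerivedCategory.Q.map ((G.mapHomologicalComplex (ComplexShape.up ℤ)).map φ₀.τ₁))
    infer_instance
  haveI : IsIso (DerivedCategory.Q.map φ.τ₂) :=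
    (EvalLocal.isZero_Q_of_acyclic (hcone g)).isIso (EvalLocal.isZero_Q_of_acyclic (hcone (𝟙 K))) _
  exact (EvalLocal.isIso_tri (hτ S₂ (mappingCone.triangleRotateShortComplexSplitting g))
    (hτ S₁ (mappingCone.triangleRotateShortComplexSplitting (𝟙 K))) φ).1 ‹_› ‹_›

/-- direct images of internal Homs into K-injective complexes invert quasi-isomorphisms -/
theorem isIso_Q_push_mL (J : CochainComplex X.Modules ℤ) [J.IsKInjective] {K K' : CochainComplex X.Modules ℤ}
    (g : K ⟶ K') [QuasiIso g] :
    IsIso (DerivedCategory.Q.map ((Proj.pushCx f).map (HomCx.m (Eval.PhiL X) g J))) := by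
  haveI := Groth.L17.PushQCoh.additive_push f
  haveI : (Scheme.Modules.pullback f).Additive :=
    (Scheme.Modules.pullbackPushforwardAdjunction f).left_adjoint_additive
  refine isIso_Q_push_m (Eval.dataL X) J (Scheme.Modules.pushforward f) (fun K hK => ?_) g
  exact HomCx.acyclic_res (Eval.dataL X) J (Scheme.Modules.pullbackPushforwardAdjunction f) K fun T => by
      obtain ⟨F, p, hp, hF⟩ := Eval.exists_flat_cover T
      refine ⟨F, p, hp, fun n => ?_⟩
      have h1 : DCoh.IsKFlat ((HomologicalComplex.single X.Modules (ComplexShape.up ℤ) n).obj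
          ((Scheme.Modules.pullback f).obj F)) :=
        KFlat.of_iso ((HomologicalComplex.singleMapHomologicalComplex (Scheme.Modules.pullback f)
          (ComplexShape.up ℤ) n).app F) (KFlat.pullback_kflat f _ (KFlat.single F hF n))
      exact acyclic_flip_obj hK h1
where
  acyclic_flip_obj {K P : CochainComplex X.Modules ℤ} (hK : K.Acyclic) (hP : DCoh.IsKFlat P) :
      (((Eval.PhiL X).obj K).obj P).Acyclic :=
    Eval.acyclic_of_iso ((RHom.flipIso K).app P).symm (RHom.acyclic_flip_single hK hP)

end Groth.Lead.SelfHom
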