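import Groth.Agent.Lead.SelfHom.PushAdj
import Groth.Agent.L29.BC.PFNat
import Groth.Agent.L29.BC.PFShift

/-!
Direct images of internal Hom complexes and the projection map.
-/

set_option autoImplicit false
set_option linter.style.haveILetI false
set_option backward.defeqAttrib.useBackward true
set_option backward.isDefEq.respectTransparency false
set_option backward.isDefEq.respectTransparency.types false

universe v u

open CategoryTheory CategoryTheory.Limits AlgebraicGeometry CochainComplex HomologicalComplex

attribute [local instance] HasDerivedCategory.standard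

noncomputable section

namespace Groth.Lead.SelfHom

open Groth.L00 Groth.L29.DC Groth.L29.BC

variable {X Y : Scheme.{u}} (f : X ⟶ Y)

/-- the projection map is natural in the complex upstairs -/
theorem proj_natural₁ {G G' : CochainComplex X.Modules ℤ} (a : G ⟶ G') (P : CochainComplex Y.Modules ℤ) :
    ((Eval.PhiL Y).map ((Proj.pushCx f).map a)).app P ≫ Proj.proj f G' P =
      Proj.proj f G P ≫ (Proj.pushCx f).map (((Eval.PhiL X).map a).app ((Proj.pullCx f).obj P)) := by
  refine HomologicalComplex.hom_ext _ _ fun j => HomologicalComplex.mapBifunctor.hom_ext fun p q h => ?_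
  haveI := Groth.L17.PushQCoh.additive_push f
  haveI : (Scheme.Modules.pullback f).Additive :=
    (Scheme.Modules.pullbackPushforwardAdjunction f).left_adjoint_additive
  change ιMapBifunctor ((Proj.pushCx f).obj G) P (DCoh.tensorBi (X := Y)) (ComplexShape.up ℤ) p q j h ≫
    (mapBifunctorMap ((Proj.pushCx f).map a) (𝟙 P) (DCoh.tensorBi (X := Y)) (ComplexShape.up ℤ)).f j ≫
      (Proj.proj f G' P).f j = ιMapBifunctor ((Proj.pushCx f).obj G) P (DCoh.tensorBi (X := Y)) (ComplexShape.up ℤ) p q j h ≫
    (Proj.proj f G P).f j ≫ (Scheme.Modules.pushforward f).map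
      ((mapBifunctorMap a (𝟙 ((Proj.pullCx f).obj P)) (DCoh.tensorBi (X := X)) (ComplexShape.up ℤ)).f j)
  rw [ι_mapBifunctorMap_assoc, PFShift.ι_proj, ← Category.assoc (ιMapBifunctor _ _ _ _ p q j h), PFShift.ι_proj,
    Category.assoc, ← Functor.map_comp, ι_mapBifunctorMap, Functor.map_comp]
  simp only [HomologicalComplex.id_f, CategoryTheory.Functor.map_id, Category.comp_id, Category.id_comp]
  rw [← Category.assoc, ← Category.assoc]
  exact congrArg (· ≫ _) (Proj.hβ₁ f (a.f p) (P.X q))

variable [DCoh.HasRpush f]

/-- the projection formula map, with the direct image derived -/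
theorem isIso_Q_proj [QuasiCompact f] [QuasiSeparated f] {I : CochainComplex X.Modules ℤ} [I.IsKInjective]
    (hI : DCoh.IsQCohD (DerivedCategory.Q.obj I)) {P : CochainComplex Y.Modules ℤ} (hP : DCoh.IsKFlat P)
    (hq : DCoh.IsQCohD (DerivedCategory.Q.obj P)) :
    IsIso (DerivedCategory.Q.map (Proj.proj f I P) ≫ SupportAdj.pushComp f (ProjQis.T f I P)) := by
  haveI := Groth.L17.PushQCoh.additive_push f
  obtain ⟨J, r, hJ, hr⟩ := ProjFormulaD.exists_kinj (ProjQis.T f I P)
  haveI : J.IsKInjective := hJ
  haveI : QuasiIso r := hr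
  haveI : IsIso (DerivedCategory.Q.map r) := (DerivedCategory.isIso_Q_map_iff_quasiIso _ _).2 hr
  haveI := ProjQC.isIso_cmp f I hI hP hq r
  haveI := SupportAdj.isIso_pushComp f J
  have h : (DerivedCategory.Q.map (Proj.proj f I P) ≫ SupportAdj.pushComp f (ProjQis.T f I P)) ≫
      (DCoh.Rpush f).map (DerivedCategory.Q.map r) =
      DerivedCategory.Q.map (ProjQis.cmp f I P r) ≫ SupportAdj.pushComp f J := by
    rw [Category.assoc, ← SupportAdj.pushComp_natural f r, Functor.map_comp DerivedCategory.Q, Category.assoc]
  haveI : IsIso ((DerivedCategory.Q.map (Proj.proj f I P) ≫ SupportAdj.pushComp f (ProjQis.T f I P)) ≫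
      (DCoh.Rpush f).map (DerivedCategory.Q.map r)) := by rw [h]; infer_instance
  exact IsIso.of_isIso_comp_right _ ((DCoh.Rpush f).map (DerivedCategory.Q.map r))

end Groth.Lead.SelfHom
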