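import Groth.Agent.Lead.SelfHom.Eval
import Groth.Agent.Lead.SelfHom.PushProj
import Groth.Agent.Lead.SelfHom.PushHom
import Groth.Agent.Lead.SelfHom.PairGen
import Groth.Agent.L29.BC.SupportPush
import Groth.Agent.L29.BC.AdjTensor
import Groth.Agent.Lead.Cancel

/-!
Duality of `Rf_*` and its right adjoint on internal Homs out of perfect complexes, at the level of complexes.
-/

set_option autoImplicit false
set_option linter.style.haveILetI false
set_option backward.defeqAttrib.useBackward true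
set_option backward.isDefEq.respectTransparency false
set_option backward.isDefEq.respectTransparency.types false

universe v u

open CategoryTheory CategoryTheory.Limits AlgebraicGeometry CochainComplex

attribute [local instance] HasDerivedCategory.standard

noncomputable section

namespace Groth.Lead.SelfHom

open Groth.L00 Groth.L29.DC Groth.L29.BC

variable {X Y : Scheme.{u}}

/-- `[G, J]` -/
abbrev HA (G J : CochainComplex X.Modules ℤ) : CochainComplex X.Modules ℤ := (HomCx.H (Eval.PhiL X) G).obj J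

/-- `[O, J] ≅ J` -/
def iota (J : CochainComplex X.Modules ℤ) : HA (RHom.O0 X) J ≅ J :=
  haveI : ((Eval.PhiL X).obj (RHom.O0 X)).IsEquivalence := Functor.isEquivalence_of_iso (unitT X).symm
  ((unitT X).app _).symm ≪≫ asIso ((HomCx.adj (Eval.PhiL X) (RHom.O0 X)).counit.app J)

theorem isKInjective_HA {N J : CochainComplex X.Modules ℤ} [J.IsKInjective] (hN : DCoh.IsKFlat N) :
    (HA N J).IsKInjective :=
  haveI := (Eval.dataL X).additive N
  DerRight.isKInjective (HomCx.adj (Eval.PhiL X) N) ((Eval.dataL X).retractObj N) (acyclic_obj_L hN) J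

theorem nonempty_HA_iso (N J : CochainComplex X.Modules ℤ) [J.IsKInjective] [DCoh.HasLTensorCx N]
    [DCoh.HasRSheafHom N] :
    Nonempty (DerivedCategory.Q.obj (HA N J) ≅ (DCoh.RSheafHom N).obj (DCoh.toD X J)) := by
  obtain ⟨c⟩ := EvalMain.nonempty_RSheafHom J N
  exact ⟨DerivedCategory.Q.mapIso ((EvalMain.hIso N).app J) ≪≫ c⟩

variable (f : X ⟶ Y) (J : CochainComplex X.Modules ℤ) {Jy : CochainComplex Y.Modules ℤ}
  (t : (Proj.pushCx f).obj J ⟶ Jy)

/-- the duality map `f_* [G, J] ⟶ [f_* G, Jy]` -/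
abbrev cc (G : CochainComplex X.Modules ℤ) :
    (Proj.pushCx f).obj (HA G J) ⟶ HA ((Proj.pushCx f).obj G) Jy :=
  Pair.cc (adjC f) (Eval.PhiL X) (Eval.PhiL Y) (fun G Z => Proj.proj f G Z) J t G

theorem tr_cc (G : CochainComplex X.Modules ℤ) {Z : CochainComplex Y.Modules ℤ}
    (b : (Proj.pullCx f).obj Z ⟶ HA G J) :
    tr (Eval.PhiL Y) ((adjC f).homEquiv _ _ b ≫ cc f J t G) =
      Proj.proj f G Z ≫ (Proj.pushCx f).map (tr (Eval.PhiL X) b) ≫ t := by
  exact Pair.tr_cc (adjC f) (Eval.PhiL X) (Eval.PhiL Y) (fun G Z => Proj.proj f G Z)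
    (fun G _ _ z => Proj.proj_natural f G _ z) J t G b

/-- the pulled back structure sheaf -/
abbrev Op : CochainComplex X.Modules ℤ := (Proj.pullCx f).obj (RHom.O0 Y)

/-- the constant attached to the unit -/
abbrev c0 : (Proj.pushCx f).obj (HA (Op f) J) ⟶ HA (RHom.O0 Y) Jy :=
  Pair.c0 (adjC f) (Eval.PhiL X) (Eval.PhiL Y) (fun G Z => Proj.proj f G Z) J t (RHom.O0 Y)

theorem cc_comp {G : CochainComplex X.Modules ℤ} (x : Op f ⟶ G) :
    cc f J t G ≫ HomCx.m (Eval.PhiL Y) ((adjC f).homEquiv _ _ x) Jy =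
      (Proj.pushCx f).map (HomCx.m (Eval.PhiL X) x J) ≫ c0 f J t := by
  exact Pair.cc_comp (adjC f) (Eval.PhiL X) (Eval.PhiL Y) (fun G Z => Proj.proj f G Z)
    (fun x Z => proj_natural₁ f x Z) (fun G _ _ z => Proj.proj_natural f G _ z) J t x

section Derived

variable [DCoh.HasRpush f] [DCoh.HasLpull f] [QuasiCompact f] [QuasiSeparated f] [J.IsKInjective] [Jy.IsKInjective]
  {hf : DCoh.RpushPreservesQCoh f} {a : DCoh.DQCoh Y ⥤ DCoh.DQCoh X} (adj : DCoh.RpushQ f hf ⊣ a)
  (O : DCoh.DQCoh Y) (eJ : DerivedCategory.Q.obj J ≅ (a.obj O).obj) (γ : O.obj ≅ DerivedCategory.Q.obj Jy)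
  (ht : DerivedCategory.Q.map t = SupportAdj.pushComp f J ≫ (DCoh.Rpush f).map eJ.hom ≫
    (adj.counit.app O).hom ≫ γ.hom)

omit [DCoh.HasLpull f] [QuasiCompact f] [QuasiSeparated f] [J.IsKInjective] [Jy.IsKInjective] in
theorem bijective_trace {V : DCoh.D X} (hV : DCoh.IsQCohD V) :
    Function.Bijective fun v : V ⟶ DerivedCategory.Q.obj J =>
      (DCoh.Rpush f).map (v ≫ eJ.hom) ≫ (adj.counit.app O).hom ≫ γ.hom := by
  let V' : DCoh.DQCoh X := ⟨V, hV⟩
  have h : (fun v : V ⟶ DerivedCategory.Q.obj J =>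
      (DCoh.Rpush f).map (v ≫ eJ.hom) ≫ (adj.counit.app O).hom ≫ γ.hom) =
      (fun w : (DCoh.RpushQ f hf).obj V' ⟶ O => w.hom ≫ γ.hom) ∘ (adj.homEquiv V' O).symm ∘
        (fun v : V ⟶ DerivedCategory.Q.obj J => (ObjectProperty.homMk (v ≫ eJ.hom) : V' ⟶ a.obj O)) := by
    funext v
    simp only [Function.comp_apply, Adjunction.homEquiv_counit]
    exact (Category.assoc _ _ _).symm
  rw [h]
  refine Function.Bijective.comp ?_ ((adj.homEquiv V' O).symm.bijective.comp ?_)
  · exact Function.bijective_iff_has_inverse.2 ⟨fun z => ObjectProperty.homMk (z ≫ γ.inv),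
      fun w => ObjectProperty.hom_ext _ (by simp), fun z => by simp⟩
  · exact Function.bijective_iff_has_inverse.2 ⟨fun z => z.hom ≫ eJ.inv, fun w => by simp,
      fun z => ObjectProperty.hom_ext _ (by simp)⟩

omit [DCoh.HasLpull f] [QuasiCompact f] [QuasiSeparated f] [J.IsKInjective] [Jy.IsKInjective] in
include ht in
theorem Q_push_t {T : CochainComplex X.Modules ℤ} (v : T ⟶ J) :
    DerivedCategory.Q.map ((Proj.pushCx f).map v ≫ t) = SupportAdj.pushComp f T ≫
      (DCoh.Rpush f).map (DerivedCategory.Q.map v ≫ eJ.hom) ≫ (adj.counit.app O).hom ≫ γ.hom := by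
  rw [Functor.map_comp, ht, ← Category.assoc, SupportAdj.pushComp_natural f v, Category.assoc,
    Functor.map_comp (DCoh.Rpush f), Category.assoc]

variable {N I : CochainComplex X.Modules ℤ} [I.IsKInjective] (r : N ⟶ I) [QuasiIso r] (hN : DCoh.IsKFlat N)

omit [DCoh.HasLpull f] [QuasiCompact f] [QuasiSeparated f] [Jy.IsKInjective] [I.IsKInjective] in
include hN r in
theorem isIso_pushComp_HA : IsIso (SupportAdj.pushComp f (HA I J)) := by
  haveI := isKInjective_HA (J := J) hN
  haveI := SupportAdj.isIso_pushComp f (HA N J)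
  haveI := isIso_Q_mL (J := J) r
  haveI := isIso_Q_push_mL f J r
  haveI : IsIso (SupportAdj.pushComp f (HA I J) ≫
      (DCoh.Rpush f).map (DerivedCategory.Q.map (HomCx.m (Eval.PhiL X) r J))) := by
    rw [← SupportAdj.pushComp_natural f (HomCx.m (Eval.PhiL X) r J)]
    infer_instance
  exact IsIso.of_isIso_comp_right _ ((DCoh.Rpush f).map (DerivedCategory.Q.map (HomCx.m (Eval.PhiL X) r J)))

include adj O eJ γ ht r hN in
set_option synthInstance.maxHeartbeats 200000 in
set_option maxHeartbeats 1600000 in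
/-- the duality map is a quasi-isomorphism -/
theorem isIso_cc (hI : DCoh.IsQCohD (DerivedCategory.Q.obj I))
    (hA : DCoh.IsQCohD (DerivedCategory.Q.obj ((Proj.pushCx f).obj (HA I J))))
    (hB : DCoh.IsQCohD (DerivedCategory.Q.obj (HA ((Proj.pushCx f).obj I) Jy))) :
    IsIso (DerivedCategory.Q.map (cc f J t I)) := by
  haveI := Groth.L17.PushQCoh.additive_push f
  haveI := isKInjective_HA (J := J) hN
  haveI := isIso_Q_mL (J := J) r
  haveI := isIso_Q_push_mL f J r
  let A : DCoh.DQCoh Y := ⟨_, hA⟩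
  let B : DCoh.DQCoh Y := ⟨_, hB⟩
  let φ : A ⟶ B := ObjectProperty.homMk (DerivedCategory.Q.map (cc f J t I))
  suffices IsIso φ from inferInstanceAs (IsIso ((ObjectProperty.ι _).map φ))
  refine isIso_of_yoneda_map_bijective _ fun Z₀ => ?_
  obtain ⟨Z, q, hZ, -, hq, -⟩ := KFlat.exists_resolution (DerivedCategory.Q.objPreimage Z₀.obj)
  haveI := (DerivedCategory.isIso_Q_map_iff_quasiIso _ q).2 hq
  let eZ : DerivedCategory.Q.obj Z ≅ Z₀.obj :=
    asIso (DerivedCategory.Q.map q) ≪≫ DerivedCategory.Q.objObjPreimageIso _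
  have hZq : DCoh.IsQCohD (DerivedCategory.Q.obj Z) := isQCohD_of_iso eZ.symm Z₀.property
  have hfZ : DCoh.IsKFlat ((Proj.pullCx f).obj Z) := KFlat.pullback_kflat f Z hZ
  haveI := isIso_Q_proj f hI hZ hZq
  let T := ProjQis.T f I Z
  have hT : DCoh.IsQCohD (DerivedCategory.Q.obj T) := by
    haveI := KFlat.hasLTensorCx ((Proj.pullCx f).obj Z)
    refine isQCohD_of_iso ((Assoc.allIso ((Proj.pullCx f).obj Z) hfZ).app I) ?_
    exact isQCohD_LTensorCx _ (isQCohD_of_iso
      (DerivedApi.objIso (DerivedApi.acyclicKFlat_pullback f) Z hZ) (Groth.Agent.S1054.result f _ hZq)) hI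
  have htr := bijective_trace f J adj O eJ γ hT
  -- transposition of a map along the duality map
  have key : ∀ b : (Proj.pullCx f).obj Z ⟶ HA I J,
      DerivedCategory.Q.map (tr (Eval.PhiL Y) ((adjC f).homEquiv _ _ b ≫ cc f J t I)) =
        (DerivedCategory.Q.map (Proj.proj f I Z) ≫ SupportAdj.pushComp f T) ≫
          ((DCoh.Rpush f).map (DerivedCategory.Q.map (tr (Eval.PhiL X) b) ≫ eJ.hom) ≫
            (adj.counit.app O).hom ≫ γ.hom) := fun b => by
    rw [tr_cc, Functor.map_comp, Q_push_t f J t adj O eJ γ ht, Category.assoc]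
  -- every map is represented
  have hrep : ∀ d : DerivedCategory.Q.obj Z ⟶ DerivedCategory.Q.obj ((Proj.pushCx f).obj (HA I J)),
      ∃ b, DerivedCategory.Q.map ((adjC f).homEquiv Z (HA I J) b) = d := fun d => by
    obtain ⟨b₁, hb₁⟩ := exists_Q_unit f hZ
      (d ≫ DerivedCategory.Q.map ((Proj.pushCx f).map (HomCx.m (Eval.PhiL X) r J)))
    obtain ⟨b, hb⟩ := exists_trL hfZ (DerivedCategory.Q.map b₁ ≫
      inv (DerivedCategory.Q.map (HomCx.m (Eval.PhiL X) r J)))
    refine ⟨b, (cancel_mono (DerivedCategory.Q.map ((Proj.pushCx f).map (HomCx.m (Eval.PhiL X) r J)))).1 ?_⟩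
    rw [← hb₁, ← Functor.map_comp, ← Adjunction.homEquiv_naturality_right, Q_unit_eq_iff f hZ, Functor.map_comp, hb,
      Category.assoc, IsIso.inv_hom_id, Category.comp_id]
  have hinj : ∀ b b', DerivedCategory.Q.map b = DerivedCategory.Q.map b' →
      DerivedCategory.Q.map ((adjC f).homEquiv Z (HA I J) b) =
        DerivedCategory.Q.map ((adjC f).homEquiv Z (HA I J) b') := fun b b' h => by
    rw [← cancel_mono (DerivedCategory.Q.map ((Proj.pushCx f).map (HomCx.m (Eval.PhiL X) r J))), ← Functor.map_comp,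
      ← Functor.map_comp, ← Adjunction.homEquiv_naturality_right, ← Adjunction.homEquiv_naturality_right,
      Q_unit_eq_iff f hZ, Functor.map_comp, Functor.map_comp, h]
  have hbij : Function.Bijective fun d : DerivedCategory.Q.obj Z ⟶
      DerivedCategory.Q.obj ((Proj.pushCx f).obj (HA I J)) => d ≫ DerivedCategory.Q.map (cc f J t I) := by
    refine ⟨fun d d' h => ?_, fun e => ?_⟩
    · obtain ⟨b, rfl⟩ := hrep d
      obtain ⟨b', rfl⟩ := hrep d'
      simp only [← Functor.map_comp] at h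
      rw [Q_trL_eq_iff hZ, key, key, cancel_epi] at h
      exact hinj b b' ((Q_trL_eq_iff hfZ b b').2 (htr.1 h))
    · obtain ⟨ζ, rfl⟩ := exists_trL hZ e
      obtain ⟨v, hv⟩ := htr.2
        (inv (DerivedCategory.Q.map (Proj.proj f I Z) ≫ SupportAdj.pushComp f T) ≫
          DerivedCategory.Q.map (tr (Eval.PhiL Y) ζ))
      obtain ⟨v₁, hv₁⟩ := DerAdj.exists_Q_map v
      refine ⟨DerivedCategory.Q.map ((adjC f).homEquiv Z (HA I J) (untr (Eval.PhiL X) v₁)), ?_⟩
      change _ ≫ _ = _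
      rw [← Functor.map_comp, Q_trL_eq_iff hZ, key, tr_untr, hv₁]
      exact (congrArg (_ ≫ ·) hv).trans (IsIso.hom_inv_id_assoc _ _)
  refine ⟨fun w w' h => ObjectProperty.hom_ext _ ((cancel_epi eZ.hom).1 (hbij.1 ?_)), fun z => ?_⟩
  · change (eZ.hom ≫ w.hom) ≫ _ = (eZ.hom ≫ w'.hom) ≫ _
    rw [Category.assoc, Category.assoc]
    exact congrArg (eZ.hom ≫ ·) (congrArg (fun k : Z₀ ⟶ B => k.hom) h)
  · obtain ⟨d, hd⟩ := hbij.2 (eZ.hom ≫ z.hom)
    refine ⟨ObjectProperty.homMk (eZ.inv ≫ d), ObjectProperty.hom_ext _ ?_⟩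
    change (eZ.inv ≫ d) ≫ _ = z.hom
    rw [Category.assoc]
    exact (congrArg (eZ.inv ≫ ·) hd).trans (eZ.inv_hom_id_assoc _)

end Derived

end Groth.Lead.SelfHom
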