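import Groth.Agent.L29.DCoh.EvalAbs
import Groth.Agent.L29.DCoh.DerAdj

/-!
Global sections of the unit of internal endomorphisms, twisted, against contravariance of internal Homs, for an
abstract tensor bifunctor of complexes.
-/

set_option autoImplicit false
set_option linter.style.haveILetI false
set_option backward.isDefEq.respectTransparency false
set_option backward.isDefEq.respectTransparency.types false

universe w v u

open CategoryTheory CategoryTheory.Limits

noncomputable section

namespace Groth.Lead.SelfHom.Gen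

open Groth.L29.DC

variable {C : Type u} [Category.{v} C] [Abelian C] [HasDerivedCategory.{w} C]
  (T : CochainComplex C ℤ ⥤ CochainComplex C ℤ ⥤ CochainComplex C ℤ)
  [∀ X, (T.obj X).IsLeftAdjoint] [∀ X, (T.flip.obj X).IsLeftAdjoint]
  (α : ∀ K L : CochainComplex C ℤ, T.flip.obj K ⋙ T.flip.obj L ≅ T.flip.obj ((T.obj K).obj L))
  (O : CochainComplex C ℤ) (U : T.obj O ≅ 𝟭 _) (J : CochainComplex C ℤ)

/-- `(O ⊗ O) ⊗ -` -/
def W : T.obj ((T.obj O).obj O) ≅ 𝟭 _ := T.mapIso (U.app O) ≪≫ U

/-- the unit -/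
def uu : O ⟶ (HomCx.H T.flip J).obj J := (HomCx.adj T.flip J).homEquiv _ _ (U.hom.app J)

theorem counit_uu : (T.map (uu T O U J)).app J ≫ (HomCx.adj T.flip J).counit.app J = U.hom.app J := by
  have h := ((HomCx.adj T.flip J).homEquiv O J).symm_apply_apply (U.hom.app J)
  rw [Adjunction.homEquiv_counit] at h
  exact h

/-- the element attached to a section -/
def xi {I : CochainComplex C ℤ} (x : O ⟶ I) :
    (T.obj O).obj O ⟶ (HomCx.H T.flip ((HomCx.H T I).obj J)).obj J :=
  (T.obj O).map x ≫ (T.map (uu T O U J)).app I ≫ EvalAbs.κ T α J J I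

/-- the constant -/
def cst : (T.obj ((T.obj O).obj O)).obj ((HomCx.H T O).obj J) ⟶ J :=
  (α O ((HomCx.H T O).obj J)).hom.app O ≫ (T.obj O).map ((HomCx.adj T O).counit.app J) ≫ U.hom.app J

include U in
theorem isIso_cst : IsIso (cst T α O U J) := by
  haveI : (T.obj O).IsEquivalence := Functor.isEquivalence_of_iso U.symm
  delta cst
  infer_instance

variable
  (h₂ : ∀ (P : CochainComplex C ℤ) {K K' : CochainComplex C ℤ} (g : K ⟶ K') (L : CochainComplex C ℤ),
    (T.map ((T.obj P).map g)).app L ≫ (α K' L).hom.app P = (α K L).hom.app P ≫ (T.obj P).map ((T.map g).app L))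
  (h₃ : ∀ (P K : CochainComplex C ℤ) {L L' : CochainComplex C ℤ} (g : L ⟶ L'),
    (T.obj ((T.obj P).obj K)).map g ≫ (α K L').hom.app P = (α K L).hom.app P ≫ (T.obj P).map ((T.obj K).map g))

theorem tr_unit :
    ((HomCx.adj T.flip ((HomCx.H T O).obj J)).homEquiv _ J).symm
      ((T.map (uu T O U J)).app O ≫ EvalAbs.κ T α J J O) = cst T α O U J := by
  let A := (HomCx.H T O).obj J
  rw [Adjunction.homEquiv_naturality_left_symm]
  change (T.map ((T.map (uu T O U J)).app O)).app A ≫
    ((HomCx.adj T.flip A).homEquiv _ J).symm (EvalAbs.κ T α J J O) = _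
  rw [show ((HomCx.adj T.flip A).homEquiv _ J).symm (EvalAbs.κ T α J J O) = EvalAbs.body T α J J O from
    EvalAbs.symm_κ T α J J O, EvalAbs.body, cst]
  have e := (α O A).hom.naturality (uu T O U J)
  refine (Category.assoc _ _ _).symm.trans ((congrArg (· ≫ _) e).trans ((Category.assoc _ _ _).trans ?_))
  refine congrArg ((α O A).hom.app O ≫ ·) ?_
  change (T.map (uu T O U J)).app ((T.obj O).obj A) ≫ _ = _
  erw [← Category.assoc, ← (T.map (uu T O U J)).naturality, Category.assoc, counit_uu]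

include h₂ h₃ in
theorem tr_xi {I : CochainComplex C ℤ} (x : O ⟶ I) :
    ((HomCx.adj T.flip ((HomCx.H T I).obj J)).homEquiv _ J).symm (xi T α O U J x) =
      (T.obj ((T.obj O).obj O)).map (HomCx.m T x J) ≫ cst T α O U J := by
  have h : xi T α O U J x = ((T.map (uu T O U J)).app O ≫ EvalAbs.κ T α J J O) ≫
      HomCx.m T.flip (HomCx.m T x J) J := by
    have h2 := EvalAbs.κ_natural T α h₂ h₃ J J x
    rw [xi, (T.map (uu T O U J)).naturality_assoc, Category.assoc]
    exact congrArg (_ ≫ ·) h2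
  rw [h, HomCx.symm_comp_m, tr_unit]
  rfl

/-- contravariance is bijective on global sections -/
def Psi (I : CochainComplex C ℤ) : Prop :=
  (∀ x x' : O ⟶ I, (DerivedCategory.Q (C := C)).map (HomCx.m T x J) = (DerivedCategory.Q (C := C)).map (HomCx.m T x' J) ↔ (DerivedCategory.Q (C := C)).map x = (DerivedCategory.Q (C := C)).map x') ∧
    ∀ η : (DerivedCategory.Q (C := C)).obj ((HomCx.H T I).obj J) ⟶ (DerivedCategory.Q (C := C)).obj ((HomCx.H T O).obj J),
      ∃ x : O ⟶ I, (DerivedCategory.Q (C := C)).map (HomCx.m T x J) = η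

/-- the twisted unit is bijective on global sections -/
def UB (N : CochainComplex C ℤ) : Prop :=
  Function.Bijective fun d : (DerivedCategory.Q (C := C)).obj ((T.obj O).obj O) ⟶ (DerivedCategory.Q (C := C)).obj ((T.obj O).obj N) =>
    d ≫ (DerivedCategory.Q (C := C)).map ((T.map (uu T O U J)).app N)

include U α h₂ h₃ in
/-- contravariance only depends on the class in the derived category -/
theorem Q_m_congr {I : CochainComplex C ℤ}
    (hiff : ∀ ξ ξ' : (T.obj O).obj O ⟶ (HomCx.H T.flip ((HomCx.H T I).obj J)).obj J,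
      (DerivedCategory.Q (C := C)).map ξ = (DerivedCategory.Q (C := C)).map ξ' →
        (DerivedCategory.Q (C := C)).map (((HomCx.adj T.flip _).homEquiv _ J).symm ξ) =
          (DerivedCategory.Q (C := C)).map (((HomCx.adj T.flip _).homEquiv _ J).symm ξ'))
    {x x' : O ⟶ I} (h : (DerivedCategory.Q (C := C)).map x = (DerivedCategory.Q (C := C)).map x') :
    (DerivedCategory.Q (C := C)).map (HomCx.m T x J) = (DerivedCategory.Q (C := C)).map (HomCx.m T x' J) := by
  haveI := isIso_cst T α O U J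
  have hUm : ∀ {A B : CochainComplex C ℤ} (a : A ⟶ B), (T.obj O).map a = U.hom.app A ≫ a ≫ U.inv.app B :=
    fun a => (NatIso.naturality_2 U a).symm
  have hW : ∀ {A B : CochainComplex C ℤ} (a : A ⟶ B),
      (T.obj ((T.obj O).obj O)).map a = (W T O U).hom.app A ≫ a ≫ (W T O U).inv.app B :=
    fun a => (NatIso.naturality_2 (W T O U) a).symm
  have hξ : (DerivedCategory.Q (C := C)).map (xi T α O U J x) = (DerivedCategory.Q (C := C)).map (xi T α O U J x') := by
    simp only [xi, hUm, Functor.map_comp, h]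
  have h' := hiff _ _ hξ
  rw [tr_xi T α O U J h₂ h₃, tr_xi T α O U J h₂ h₃, hW, hW] at h'
  simpa only [Functor.map_comp, cancel_epi, cancel_mono] using h'

variable {N I : CochainComplex C ℤ} (r : N ⟶ I)
  (hI : ∀ d : (DerivedCategory.Q (C := C)).obj O ⟶ (DerivedCategory.Q (C := C)).obj I, ∃ x : O ⟶ I, (DerivedCategory.Q (C := C)).map x = d)
  (hJ : ∀ {P : CochainComplex C ℤ} (d : (DerivedCategory.Q (C := C)).obj P ⟶ (DerivedCategory.Q (C := C)).obj J), ∃ x : P ⟶ J, (DerivedCategory.Q (C := C)).map x = d)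
  (hκ : IsIso ((DerivedCategory.Q (C := C)).map (EvalAbs.κ T α J J N)))
  (hm : IsIso ((DerivedCategory.Q (C := C)).map (HomCx.m T.flip (HomCx.m T r J) J)))
  (hiff : ∀ ξ ξ' : (T.obj O).obj O ⟶ (HomCx.H T.flip ((HomCx.H T I).obj J)).obj J,
    (DerivedCategory.Q (C := C)).map ξ = (DerivedCategory.Q (C := C)).map ξ' ↔
      (DerivedCategory.Q (C := C)).map (((HomCx.adj T.flip _).homEquiv _ J).symm ξ) = (DerivedCategory.Q (C := C)).map (((HomCx.adj T.flip _).homEquiv _ J).symm ξ'))
  (hex : ∀ e : (DerivedCategory.Q (C := C)).obj ((T.obj O).obj O) ⟶ (DerivedCategory.Q (C := C)).obj ((HomCx.H T.flip ((HomCx.H T I).obj J)).obj J),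
    ∃ ξ, (DerivedCategory.Q (C := C)).map ξ = e)

include h₂ h₃ hI hJ hκ hm hiff hex in
theorem psi_iff_UB [IsIso ((DerivedCategory.Q (C := C)).map r)] : Psi T O J I ↔ UB T O U J N := by
  haveI := hκ
  haveI := hm
  haveI := isIso_cst T α O U J
  have hUm : ∀ {A B : CochainComplex C ℤ} (a : A ⟶ B), (T.obj O).map a = U.hom.app A ≫ a ≫ U.inv.app B :=
    fun a => (NatIso.naturality_2 U a).symm
  let dx : (O ⟶ I) → ((DerivedCategory.Q (C := C)).obj ((T.obj O).obj O) ⟶ (DerivedCategory.Q (C := C)).obj ((T.obj O).obj N)) := fun x =>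
    (DerivedCategory.Q (C := C)).map (U.hom.app _) ≫ (DerivedCategory.Q (C := C)).map x ≫ inv ((DerivedCategory.Q (C := C)).map r) ≫ (DerivedCategory.Q (C := C)).map (U.inv.app N)
  have hsurj : ∀ d, ∃ x, dx x = d := fun d => by
    obtain ⟨x, hx⟩ := hI ((DerivedCategory.Q (C := C)).map (U.inv.app _) ≫ d ≫ (DerivedCategory.Q (C := C)).map (U.hom.app N) ≫ (DerivedCategory.Q (C := C)).map r)
    refine ⟨x, ?_⟩
    simp only [dx, hx, Category.assoc, IsIso.hom_inv_id_assoc]
    rw [← Functor.map_comp, U.hom_inv_id_app, CategoryTheory.Functor.map_id, Category.comp_id,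
      ← Functor.map_comp_assoc, U.hom_inv_id_app, CategoryTheory.Functor.map_id, Category.id_comp]
  have heq : ∀ x x', dx x = dx x' ↔ (DerivedCategory.Q (C := C)).map x = (DerivedCategory.Q (C := C)).map x' := fun x x' => by
    simp only [dx, cancel_epi, cancel_mono]
  let g := asIso ((DerivedCategory.Q (C := C)).map (EvalAbs.κ T α J J N) ≫ (DerivedCategory.Q (C := C)).map (HomCx.m T.flip (HomCx.m T r J) J))
  let G := fun d : (DerivedCategory.Q (C := C)).obj ((T.obj O).obj O) ⟶ (DerivedCategory.Q (C := C)).obj ((T.obj O).obj N) =>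
    (d ≫ (DerivedCategory.Q (C := C)).map ((T.map (uu T O U J)).app N)) ≫ g.hom
  have hG : ∀ x, G (dx x) = (DerivedCategory.Q (C := C)).map (xi T α O U J x) := fun x => by
    have e2 := EvalAbs.κ_natural T α h₂ h₃ J J r
    have e : (T.map (uu T O U J)).app N ≫ EvalAbs.κ T α J J N ≫ HomCx.m T.flip (HomCx.m T r J) J =
        (T.obj O).map r ≫ (T.map (uu T O U J)).app I ≫ EvalAbs.κ T α J J I := by
      rw [(T.map (uu T O U J)).naturality_assoc]
      exact congrArg (_ ≫ ·) e2.symm
    simp only [G, g, asIso_hom, Category.assoc, ← Functor.map_comp]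
    rw [e, xi, hUm r, hUm x]
    simp only [dx, Functor.map_comp, Category.assoc]
    rw [← Functor.map_comp_assoc _ (U.inv.app N) (U.hom.app N), U.inv_hom_id_app, CategoryTheory.Functor.map_id]
    simp
  have hUB : UB T O U J N ↔ Function.Bijective G := by
    have hg : Function.Bijective fun z : (DerivedCategory.Q (C := C)).obj ((T.obj O).obj O) ⟶ _ => z ≫ g.hom :=
      g.homToEquiv.bijective
    exact (Function.Bijective.of_comp_iff' hg _).symm
  have hW : ∀ {A B : CochainComplex C ℤ} (a : A ⟶ B),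
      (T.obj ((T.obj O).obj O)).map a = (W T O U).hom.app A ≫ a ≫ (W T O U).inv.app B :=
    fun a => (NatIso.naturality_2 (W T O U) a).symm
  have htr : ∀ x : O ⟶ I, (DerivedCategory.Q (C := C)).map (((HomCx.adj T.flip _).homEquiv _ J).symm (xi T α O U J x)) =
      (DerivedCategory.Q (C := C)).map ((W T O U).hom.app _) ≫ (DerivedCategory.Q (C := C)).map (HomCx.m T x J) ≫ (DerivedCategory.Q (C := C)).map ((W T O U).inv.app _) ≫
        (DerivedCategory.Q (C := C)).map (cst T α O U J) := fun x => by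
    rw [tr_xi T α O U J h₂ h₃ x, hW]
    simp only [Functor.map_comp, Category.assoc]
  have key : ∀ x x', G (dx x) = G (dx x') ↔ (DerivedCategory.Q (C := C)).map (HomCx.m T x J) = (DerivedCategory.Q (C := C)).map (HomCx.m T x' J) := fun x x' => by
    rw [hG, hG, hiff, htr, htr]
    simp only [cancel_epi, cancel_mono]
  rw [hUB]
  constructor
  · rintro ⟨hi, hs⟩
    refine ⟨fun d d' h => ?_, fun e => ?_⟩
    · obtain ⟨x, rfl⟩ := hsurj d
      obtain ⟨x', rfl⟩ := hsurj d'
      exact (heq x x').2 ((hi x x').1 ((key x x').1 h))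
    · obtain ⟨ξ, rfl⟩ := hex e
      obtain ⟨x, hx⟩ := hs ((DerivedCategory.Q (C := C)).map ((W T O U).inv.app _) ≫
        (DerivedCategory.Q (C := C)).map (((HomCx.adj T.flip _).homEquiv _ J).symm ξ) ≫ inv ((DerivedCategory.Q (C := C)).map (cst T α O U J)) ≫
          (DerivedCategory.Q (C := C)).map ((W T O U).hom.app _))
      refine ⟨dx x, (hG x).trans ((hiff _ _).2 ?_)⟩
      rw [htr, hx]
      simp [← Functor.map_comp_assoc, ← Functor.map_comp]
  · rintro ⟨hi, hs⟩
    refine ⟨fun x x' => ⟨fun h => (heq x x').1 (hi ((key x x').2 h)),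
      fun h => (key x x').1 (congrArg G ((heq x x').2 h))⟩, fun η => ?_⟩
    obtain ⟨v, hv⟩ := hJ ((DerivedCategory.Q (C := C)).map ((W T O U).hom.app _) ≫ η ≫ (DerivedCategory.Q (C := C)).map ((W T O U).inv.app _) ≫
      (DerivedCategory.Q (C := C)).map (cst T α O U J))
    obtain ⟨d, hd⟩ := hs ((DerivedCategory.Q (C := C)).map ((HomCx.adj T.flip _).homEquiv _ J v))
    obtain ⟨x, rfl⟩ := hsurj d
    refine ⟨x, ?_⟩
    rw [hG, hiff, Equiv.symm_apply_apply, hv, htr] at hd
    simpa only [cancel_epi, cancel_mono] using hd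

omit [∀ X, (T.obj X).IsLeftAdjoint] in
/-- for a resolution of the unit the unit of internal endomorphisms is invertible -/
theorem isIso_uu (U' : T.flip.obj O ≅ 𝟭 _) (i : O ⟶ J) [IsIso ((DerivedCategory.Q (C := C)).map i)]
    [IsIso ((DerivedCategory.Q (C := C)).map (HomCx.m T.flip i J))] :
    IsIso ((DerivedCategory.Q (C := C)).map (uu T O U J)) := by
  haveI : (T.flip.obj O).IsEquivalence := Functor.isEquivalence_of_iso U'.symm
  haveI : IsIso ((HomCx.adj T.flip O).homEquiv _ J (U'.hom.app J)) := by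
    rw [Adjunction.homEquiv_unit]
    infer_instance
  let a := U'.inv.app O ≫ U.hom.app O ≫ i
  have h : uu T O U J ≫ HomCx.m T.flip i J = a ≫ (HomCx.adj T.flip O).homEquiv _ J (U'.hom.app J) := by
    apply ((HomCx.adj T.flip O).homEquiv _ _).symm.injective
    rw [HomCx.symm_comp_m, Adjunction.homEquiv_naturality_left_symm, Equiv.symm_apply_apply, uu,
      Equiv.symm_apply_apply, U'.hom.naturality a]
    simp only [a, Functor.id_map]
    erw [U'.hom_inv_id_app_assoc]
    exact U.hom.naturality i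
  haveI : IsIso ((DerivedCategory.Q (C := C)).map (uu T O U J) ≫
      (DerivedCategory.Q (C := C)).map (HomCx.m T.flip i J)) := by
    rw [← Functor.map_comp, h]
    simp only [a, Functor.map_comp]
    infer_instance
  exact IsIso.of_isIso_comp_right _ ((DerivedCategory.Q (C := C)).map (HomCx.m T.flip i J))

end Groth.Lead.SelfHom.Gen
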