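import Groth.Agent.Lead.SelfHom.Chain
import Groth.Agent.Lead.SelfHom.EvalGen
import Groth.Agent.L29.BC.PFNat

/-!
Global sections of the unit of `RHom(J, J)` twisted by perfect complexes.
-/

set_option autoImplicit false
set_option linter.style.haveILetI false
set_option backward.defeqAttrib.useBackward true
set_option backward.isDefEq.respectTransparency false
set_option backward.isDefEq.respectTransparency.types false

universe v u

open CategoryTheory CategoryTheory.Limits AlgebraicGeometry CochainComplex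

attribute [local instance] HasDerivedCategory.standard

noncomputable section

namespace Groth.Lead.SelfHom

open Groth.L00 Groth.L29.DC

variable {X : Scheme.{u}}

/-- `O ⊗ -` -/
def unitT (X : Scheme.{u}) : (Eval.PhiL X).obj (RHom.O0 X) ≅ 𝟭 (CochainComplex X.Modules ℤ) :=
  RHom.flipIso (RHom.O0 X) ≪≫ RHom.unitCxIso

/-- `O ⊗ O` -/
abbrev O2 (X : Scheme.{u}) : CochainComplex X.Modules ℤ :=
  ((Eval.PhiL X).obj (RHom.O0 X)).obj (RHom.O0 X)

theorem isKFlat_O0 : DCoh.IsKFlat (RHom.O0 X) :=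
  isKFlat_of_isStrictlyPerfect RHom.isStrictlyPerfect_O0

theorem isKFlat_O2 : DCoh.IsKFlat (O2 X) :=
  KFlat.of_iso ((unitT X).app (RHom.O0 X)).symm isKFlat_O0

/-- the associativity used by the evaluation map -/
abbrev αX (X : Scheme.{u}) := fun K L : CochainComplex X.Modules ℤ => Assoc.assocFunctor K L

variable (J : CochainComplex X.Modules ℤ)

/-- the unit of internal endomorphisms -/
abbrev uu : RHom.O0 X ⟶ (HomCx.H (Eval.PhiR X) J).obj J :=
  Gen.uu (Eval.PhiL X) (RHom.O0 X) (unitT X) J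

/-- contravariance is bijective on global sections -/
abbrev Psi (I : CochainComplex X.Modules ℤ) : Prop := Gen.Psi (Eval.PhiL X) (RHom.O0 X) J I

/-- the twisted unit is bijective on global sections -/
abbrev UB (N : CochainComplex X.Modules ℤ) : Prop := Gen.UB (Eval.PhiL X) (RHom.O0 X) (unitT X) J N

variable [J.IsKInjective]

theorem psi_iff_UB {N I : CochainComplex X.Modules ℤ} [I.IsKInjective] (r : N ⟶ I) [QuasiIso r]
    (hN : DCoh.IsKFlat N) (hNp : DCoh.IsPerfect (DCoh.toD X N)) : Psi J I ↔ UB J N := by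
  haveI : IsIso (DerivedCategory.Q.map r) := (DerivedCategory.isIso_Q_map_iff_quasiIso _ _).2 inferInstance
  haveI hm1 : IsIso (DerivedCategory.Q.map (HomCx.m (Eval.PhiL X) r J)) := isIso_Q_mL r
  haveI : QuasiIso (HomCx.m (Eval.PhiL X) r J) := (DerivedCategory.isIso_Q_map_iff_quasiIso _ _).1 hm1
  exact Gen.psi_iff_UB (Eval.PhiL X) (αX X) (RHom.O0 X) (unitT X) J Eval.assoc₂ Eval.assoc₃ r
    (fun d => DerAdj.exists_Q_map d) (fun d => DerAdj.exists_Q_map d) (EvalMain.isIso_Q_κ J J hN hNp)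
    (isIso_Q_mR _) (fun ξ ξ' => Q_trR_eq_iff isKFlat_O2 ξ ξ') (fun e => exists_trR isKFlat_O2 e)

theorem Q_m_congr {I : CochainComplex X.Modules ℤ} {x x' : RHom.O0 X ⟶ I}
    (h : DerivedCategory.Q.map x = DerivedCategory.Q.map x') :
    DerivedCategory.Q.map (HomCx.m (Eval.PhiL X) x J) = DerivedCategory.Q.map (HomCx.m (Eval.PhiL X) x' J) :=
  Gen.Q_m_congr (Eval.PhiL X) (αX X) (RHom.O0 X) (unitT X) J Eval.assoc₂ Eval.assoc₃
    (fun ξ ξ' => (Q_trR_eq_iff isKFlat_O2 ξ ξ').1) h

omit [J.IsKInjective] in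
theorem UB_of_isIso_uu (h : IsIso (DerivedCategory.Q.map (uu J))) {N : CochainComplex X.Modules ℤ}
    (hN : DCoh.IsKFlat N) : UB J N := by
  haveI : QuasiIso (uu J) := (DerivedCategory.isIso_Q_map_iff_quasiIso _ _).1 h
  haveI := KFlat.quasiIso_tensor_of_kflat N hN (uu J)
  haveI : IsIso (DerivedCategory.Q.map (((Eval.PhiL X).map (uu J)).app N)) :=
    (DerivedCategory.isIso_Q_map_iff_quasiIso _ _).2 inferInstance
  exact (asIso (DerivedCategory.Q.map (((Eval.PhiL X).map (uu J)).app N))).homToEquiv.bijective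

/-- for a resolution of the structure sheaf the unit is invertible -/
theorem isIso_uu_of_resolution (i : RHom.O0 X ⟶ J) [QuasiIso i] : IsIso (DerivedCategory.Q.map (uu J)) := by
  haveI : IsIso (DerivedCategory.Q.map (HomCx.m (Eval.PhiR X) i J)) := isIso_Q_mR i
  haveI : IsIso (DerivedCategory.Q.map i) := (DerivedCategory.isIso_Q_map_iff_quasiIso _ _).2 inferInstance
  exact Gen.isIso_uu (Eval.PhiL X) (RHom.O0 X) (unitT X) J RHom.unitCxIso i

end Groth.Lead.SelfHom
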