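import Groth.Agent.Lead.SelfHom.Eval
import Groth.Agent.L29.BC.PFShift
import Groth.Agent.L29.BC.AdjTensor
import Groth.Agent.L29.DCoh.Gen.Main

/-!
The unit of `RHom(J, J)` is invertible when its perfect twists are bijective on global sections.
-/

set_option autoImplicit false
set_option linter.style.haveILetI false
set_option backward.defeqAttrib.useBackward true
set_option backward.isDefEq.respectTransparency false
set_option backward.isDefEq.respectTransparency.types false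

universe v u

open CategoryTheory CategoryTheory.Limits CategoryTheory.Pretriangulated AlgebraicGeometry CochainComplex

attribute [local instance] HasDerivedCategory.standard

noncomputable section

namespace Groth.Lead.SelfHom

open Groth.L00 Groth.L29.DC

variable {X : Scheme.{u}}

/-- shifting the map and shifting the other factor give the same tensor product -/
theorem exists_shift_square {O H D : CochainComplex X.Modules ℤ} (u : O ⟶ H) :
    ∃ (a : ((Eval.PhiL X).obj (O⟦(1 : ℤ)⟧)).obj D ≅ ((Eval.PhiL X).obj O).obj (D⟦(1 : ℤ)⟧))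
      (b : ((Eval.PhiL X).obj (H⟦(1 : ℤ)⟧)).obj D ≅ ((Eval.PhiL X).obj H).obj (D⟦(1 : ℤ)⟧)),
      ((Eval.PhiL X).map (u⟦(1 : ℤ)⟧')).app D ≫ b.hom = a.hom ≫ ((Eval.PhiL X).map u).app (D⟦(1 : ℤ)⟧) := by
  let s := fun A : CochainComplex X.Modules ℤ =>
    CochainComplex.mapBifunctorShift₁Iso A D (DCoh.tensorBi (X := X)) (1 : ℤ)
  let t := fun A : CochainComplex X.Modules ℤ => Groth.L29.BC.PFShift.σ A D (1 : ℤ)
  refine ⟨s O ≪≫ (t O).symm, s H ≪≫ (t H).symm, ?_⟩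
  have h1 : ((Eval.PhiL X).map (u⟦(1 : ℤ)⟧')).app D ≫ (s H).hom =
      (s O).hom ≫ (((Eval.PhiL X).map u).app D)⟦(1 : ℤ)⟧' :=
    CochainComplex.mapBifunctorShift₁Iso_hom_naturality₁ u D (DCoh.tensorBi (X := X)) (1 : ℤ)
  have h2 : (((Eval.PhiL X).map u).app D)⟦(1 : ℤ)⟧' ≫ (t H).inv =
      (t O).inv ≫ ((Eval.PhiL X).map u).app (D⟦(1 : ℤ)⟧) := by
    rw [Iso.eq_inv_comp, ← Category.assoc, Iso.comp_inv_eq]
    exact (Groth.L29.BC.PFShift.σ_natural u D 1).symm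
  simp only [Iso.trans_hom, Iso.symm_hom, Category.assoc]
  rw [reassoc_of% h1, h2]

/-- bijectivity after composition, transported along a square of isomorphisms -/
theorem bij_of_square {C : Type*} [Category C] {P A B A' B' : C} {f : A ⟶ B} {g : A' ⟶ B'} (a : A ≅ A')
    (b : B ≅ B') (h : f ≫ b.hom = a.hom ≫ g) (hb : Function.Bijective fun d : P ⟶ A' => d ≫ g) :
    Function.Bijective fun d : P ⟶ A => d ≫ f := by
  have : (fun d : P ⟶ A => d ≫ f) = b.symm.homToEquiv ∘ (fun d : P ⟶ A' => d ≫ g) ∘ a.homToEquiv := by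
    funext d
    simp only [Function.comp_apply, Iso.homToEquiv_apply, Category.assoc, Iso.symm_hom]
    rw [← reassoc_of% h, Iso.hom_inv_id, Category.comp_id]
  rw [this]
  exact b.symm.homToEquiv.bijective.comp (hb.comp a.homToEquiv.bijective)

variable [CompactSpace X] [QuasiSeparatedSpace X] (J : CochainComplex X.Modules ℤ)

set_option maxHeartbeats 1600000 in
theorem isIso_uu_of_UB
    (hH : DCoh.IsQCohD (DerivedCategory.Q.obj ((HomCx.H (Eval.PhiR X) J).obj J)))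
    (hUB : ∀ N, DCoh.IsKFlat N → DCoh.IsPerfect (DCoh.toD X N) → UB J N) :
    IsIso (DerivedCategory.Q.map (uu J)) := by
  let Q := DerivedCategory.Q (C := X.Modules)
  let v := Q.map (uu J)
  obtain ⟨G, hG, hgen⟩ := Gen.exists_perfect_generator X
  obtain ⟨C, q, d, hT⟩ := distinguished_cocone_triangle v
  have hO : DCoh.IsQCohD (Q.obj (RHom.O0 X)) := Groth.L29.BC.AdjTensor.isQCohD_O0
  refine (Triangle.isZero₃_iff_isIso₁ _ hT).1 (hgen C (Gen.isQCohD_third _ hT hO hH) fun n φ => ?_)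
  haveI := fun E => KFlat.hasLTensorCx (X := X) E
  haveI := fun E => RHom.hasRSheafHom (X := X) E
  obtain ⟨K, hK, ⟨eK⟩⟩ : ∃ K, DCoh.IsKFlat K ∧ Nonempty (Q.obj K ≅ G⟦n⟧) := by
    obtain ⟨K, q', hK, -, hq', -⟩ := KFlat.exists_resolution (Q.objPreimage (G⟦n⟧))
    haveI := (DerivedCategory.isIso_Q_map_iff_quasiIso _ q').2 hq'
    exact ⟨K, hK, ⟨asIso (Q.map q') ≪≫ Q.objObjPreimageIso _⟩⟩
  have hKp : DCoh.IsPerfect (DCoh.toD X K) := isPerfect_of_iso eK.symm (perfect_shift hG n)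
  let D₀ := (DCoh.RSheafHom K).obj (DCoh.toD X (RHom.O0 X))
  obtain ⟨D, hD, ⟨eD⟩⟩ : ∃ D, DCoh.IsKFlat D ∧ Nonempty (Q.obj D ≅ D₀) := by
    obtain ⟨D, q', hD, -, hq', -⟩ := KFlat.exists_resolution (Q.objPreimage D₀)
    haveI := (DerivedCategory.isIso_Q_map_iff_quasiIso _ q').2 hq'
    exact ⟨D, hD, ⟨asIso (Q.map q') ≪≫ Q.objObjPreimageIso _⟩⟩
  have hDp : DCoh.IsPerfect (DCoh.toD X D) :=
    isPerfect_of_iso eD.symm (EvalMain.isPerfect_dual K hK hKp)
  obtain ⟨w⟩ := EvalMain.nonempty_dual K D hK hKp hD ⟨eD⟩ C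
  let L := DCoh.LTensorCx D
  let α := Assoc.allIso D hD
  -- the two squares
  have hb0 : Function.Bijective fun δ : Q.obj (O2 X) ⟶ L.obj (Q.obj (RHom.O0 X)) => δ ≫ L.map v :=
    bij_of_square (α.app _) (α.app _) (α.hom.naturality (uu J)) (hUB D hD hDp)
  obtain ⟨a, b, hab⟩ := exists_shift_square (D := D) (uu J)
  let cs := (DerivedCategory.Q (C := X.Modules)).commShiftIso (1 : ℤ)
  have hb1 : Function.Bijective fun δ : Q.obj (O2 X) ⟶ L.obj ((Q.obj (RHom.O0 X))⟦(1 : ℤ)⟧) =>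
      δ ≫ L.map (v⟦(1 : ℤ)⟧') := by
    refine bij_of_square (L.mapIso (cs.app _).symm ≪≫ α.app _ ≪≫ Q.mapIso a)
      (L.mapIso (cs.app _).symm ≪≫ α.app _ ≪≫ Q.mapIso b) ?_
      (hUB (D⟦(1 : ℤ)⟧) (KFlat.shift D 1 hD) (isPerfect_of_iso (cs.app D).symm (perfect_shift hDp 1)))
    have h1 : v⟦(1 : ℤ)⟧' ≫ (cs.app _).inv = (cs.app _).inv ≫ Q.map ((uu J)⟦(1 : ℤ)⟧') :=
      cs.inv.naturality (uu J)
    have h2 := α.hom.naturality ((uu J)⟦(1 : ℤ)⟧')
    simp only [Iso.trans_hom, Functor.mapIso_hom, Iso.symm_hom, Category.assoc, ← L.map_comp_assoc]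
    rw [h1, L.map_comp_assoc]
    erw [reassoc_of% h2]
    erw [← Q.map_comp, hab, Q.map_comp]
    rfl
  obtain ⟨h', hT''⟩ := Groth.L29.BC.LTExact.exists_distinguished D _ hT
  change Triangle.mk (L.map q) (L.map d) h' ∈ _ at hT''
  haveI : L.Additive := by
    haveI : (DCoh.LTensorCx D).IsLeftAdjoint := ⟨_, ⟨DCoh.RSheafHomAdj D⟩⟩
    haveI := preservesBinaryBiproducts_of_preservesBinaryCoproducts (DCoh.LTensorCx D)
    exact Functor.additive_of_preservesBinaryBiproducts (DCoh.LTensorCx D)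
  have hzero : ∀ δ : Q.obj (O2 X) ⟶ L.obj C, δ = 0 := fun δ => by
    have h0 : δ ≫ L.map d = 0 := by
      apply hb1.1
      change (δ ≫ L.map d) ≫ L.map (v⟦(1 : ℤ)⟧') = 0 ≫ L.map (v⟦(1 : ℤ)⟧')
      have h31 : d ≫ v⟦(1 : ℤ)⟧' = 0 := comp_distTriang_mor_zero₃₁ _ hT
      rw [Category.assoc, ← L.map_comp, h31, zero_comp]
      rw [L.map_zero, comp_zero]
    obtain ⟨γ, hγ⟩ := Triangle.coyoneda_exact₂ _ hT'' δ h0
    obtain ⟨ε, hε⟩ := hb0.2 γ
    rw [hγ, ← hε]
    change (ε ≫ L.map v) ≫ L.map q = 0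
    have h12 : v ≫ q = 0 := comp_distTriang_mor_zero₁₂ _ hT
    rw [Category.assoc, ← L.map_comp, h12, L.map_zero, comp_zero]
  -- from global sections of `D ⊗ C` to maps out of the generator
  let eO : (DCoh.LTensorCx K).obj (Q.obj (O2 X)) ≅ G⟦n⟧ :=
    (DCoh.LTensorCx K).mapIso (Q.mapIso ((unitT X).app _)) ≪≫ (Assoc.allIso K hK).app (RHom.O0 X) ≪≫
      Q.mapIso ((unitT X).app K) ≪≫ eK
  apply (cancel_epi eO.hom).1
  rw [comp_zero]
  apply ((DCoh.RSheafHomAdj K).homEquiv _ _).injective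
  have hz := hzero ((DCoh.RSheafHomAdj K).homEquiv _ _ (eO.hom ≫ φ) ≫ w.inv)
  rw [← cancel_mono w.inv, hz, Adjunction.homEquiv_unit]
  simp

end Groth.Lead.SelfHom
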