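import Groth.Agent.Lead.SelfHom.Duality
import Groth.Agent.Lead.SelfHom.Global

/-!
`RHom(a O, a O) = O` for the right adjoint `a` of `Rf_*`.
-/

set_option autoImplicit false
set_option linter.style.haveILetI false
set_option backward.defeqAttrib.useBackward true
set_option backward.isDefEq.respectTransparency false
set_option backward.isDefEq.respectTransparency.types false

universe v u

open CategoryTheory CategoryTheory.Limits AlgebraicGeometry CochainComplex

attribute [local instance] HasDerivedCategory.standard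

noncomputable section

namespace Groth.Lead.SelfHom

open Groth.L00 Groth.L29.DC Groth.L29.BC

variable {X Y : Scheme.{u}}

/-- internal Hom into a K-injective complex out of a perfect complex is quasi-coherent -/
theorem isQCohD_HA {G J : CochainComplex X.Modules ℤ} [J.IsKInjective] (hG : DCoh.IsPerfect (DCoh.toD X G))
    (hJ : DCoh.IsQCohD (DerivedCategory.Q.obj J)) : DCoh.IsQCohD (DerivedCategory.Q.obj (HA G J)) := by
  haveI := KFlat.hasLTensorCx G
  haveI := RHom.hasRSheafHom G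
  obtain ⟨c⟩ := nonempty_HA_iso G J
  exact isQCohD_of_iso c.symm (SupportAdj.qcoh_RHom_of_perfect hG hJ)

/-- `O ≅ f^* O` -/
def unitOp (f : X ⟶ Y) : Op f ≅ RHom.O0 X :=
  haveI : (Scheme.Modules.pullback f).Additive :=
    (Scheme.Modules.pullbackPushforwardAdjunction f).left_adjoint_additive
  (HomologicalComplex.singleMapHomologicalComplex (Scheme.Modules.pullback f) (ComplexShape.up ℤ) 0).app _ ≪≫
    (HomologicalComplex.single X.Modules (ComplexShape.up ℤ) 0).mapIso (Groth.L29.LocFree.pullbackUnitIso f)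

theorem exists_flat_to {G : CochainComplex X.Modules ℤ} (hG : DCoh.IsPerfect (DCoh.toD X G)) :
    ∃ (N : CochainComplex X.Modules ℤ) (r : N ⟶ G), QuasiIso r ∧ DCoh.IsKFlat N ∧
      DCoh.IsPerfect (DCoh.toD X N) :=
  haveI := KFlat.quasiIso_rF (Y := X) G
  ⟨_, (KFlat.rF X).app G, inferInstance, KFlat.isKFlat_RF G, isPerfect_of_iso
    (@asIso _ _ _ _ (DerivedCategory.Q.map ((KFlat.rF X).app G))
      ((DerivedCategory.isIso_Q_map_iff_quasiIso _ _).2 inferInstance)).symm hG⟩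

variable (f : X ⟶ Y) [DCoh.HasRpush f] [DCoh.HasLpull f] [QuasiCompact f] [QuasiSeparated f]
  {hf : DCoh.RpushPreservesQCoh f} {a : DCoh.DQCoh Y ⥤ DCoh.DQCoh X} (adj : DCoh.RpushQ f hf ⊣ a)
  (O : DCoh.DQCoh Y) (J : CochainComplex X.Modules ℤ) [J.IsKInjective]
  (eJ : DerivedCategory.Q.obj J ≅ (a.obj O).obj)
  (Jy : CochainComplex Y.Modules ℤ) [Jy.IsKInjective] (i : RHom.O0 Y ⟶ Jy) [QuasiIso i]
  (γ : O.obj ≅ DerivedCategory.Q.obj Jy)
  (hperf : ∀ P : DCoh.D X, DCoh.IsPerfect P → DCoh.IsPerfect ((DCoh.Rpush f).obj P))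

include adj eJ γ in
theorem exists_trace_map : ∃ t : (Proj.pushCx f).obj J ⟶ Jy, DerivedCategory.Q.map t =
    SupportAdj.pushComp f J ≫ (DCoh.Rpush f).map eJ.hom ≫ (adj.counit.app O).hom ≫ γ.hom :=
  DerAdj.exists_Q_map _

variable {t : (Proj.pushCx f).obj J ⟶ Jy}
  (ht : DerivedCategory.Q.map t = SupportAdj.pushComp f J ≫ (DCoh.Rpush f).map eJ.hom ≫
    (adj.counit.app O).hom ≫ γ.hom)

include adj O eJ γ hperf ht in
/-- the duality map is a quasi-isomorphism at perfect K-injective complexes -/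
theorem isIso_cc_perfect {I : CochainComplex X.Modules ℤ} [I.IsKInjective]
    (hI : DCoh.IsPerfect (DCoh.toD X I)) :
    IsIso (DerivedCategory.Q.map (cc f J t I)) ∧ IsIso (SupportAdj.pushComp f (HA I J)) ∧
      DCoh.IsPerfect (DCoh.toD Y ((Proj.pushCx f).obj I)) := by
  obtain ⟨N, r, hr, hN, hNp⟩ := exists_flat_to hI
  haveI := hr
  haveI := SupportAdj.isIso_pushComp f I
  have hfI : DCoh.IsPerfect (DCoh.toD Y ((Proj.pushCx f).obj I)) :=
    isPerfect_of_iso (asIso (SupportAdj.pushComp f I)).symm (hperf _ hI)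
  have hJq : DCoh.IsQCohD (DerivedCategory.Q.obj J) := isQCohD_of_iso eJ.symm (a.obj O).property
  haveI := isIso_pushComp_HA f J r hN
  refine ⟨isIso_cc f J t adj O eJ γ ht r hN (PCQCoh.isQCohD_of_perfect hI) ?_ ?_, inferInstance, hfI⟩
  · exact isQCohD_of_iso (asIso (SupportAdj.pushComp f (HA I J))).symm (hf _ (isQCohD_HA hI hJq))
  · exact isQCohD_HA hfI (isQCohD_of_iso γ O.property)

include i adj O eJ γ hperf ht in
/-- contravariance followed by the constant is bijective -/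
theorem bij_c0 {I : CochainComplex X.Modules ℤ} [I.IsKInjective] (hI : DCoh.IsPerfect (DCoh.toD X I)) :
    (∀ x x' : Op f ⟶ I, DerivedCategory.Q.map ((Proj.pushCx f).map (HomCx.m (Eval.PhiL X) x J) ≫ c0 f J t) =
      DerivedCategory.Q.map ((Proj.pushCx f).map (HomCx.m (Eval.PhiL X) x' J) ≫ c0 f J t) →
        DerivedCategory.Q.map x = DerivedCategory.Q.map x') ∧
    ∀ e : DerivedCategory.Q.obj ((Proj.pushCx f).obj (HA I J)) ⟶ DerivedCategory.Q.obj (HA (RHom.O0 Y) Jy),
      ∃ x : Op f ⟶ I, DerivedCategory.Q.map ((Proj.pushCx f).map (HomCx.m (Eval.PhiL X) x J) ≫ c0 f J t) = e := by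
  obtain ⟨hc, -, hfI⟩ := isIso_cc_perfect f adj O J eJ Jy γ hperf ht hI
  haveI := hc
  obtain ⟨IY, rY, hIY, hrY⟩ := ProjFormulaD.exists_kinj ((Proj.pushCx f).obj I)
  haveI : IY.IsKInjective := hIY
  haveI : QuasiIso rY := hrY
  haveI : IsIso (DerivedCategory.Q.map rY) := (DerivedCategory.isIso_Q_map_iff_quasiIso _ _).2 hrY
  haveI := isIso_Q_mL (J := Jy) rY
  have hIYp : DCoh.IsPerfect (DCoh.toD Y IY) := isPerfect_of_iso (asIso (DerivedCategory.Q.map rY)) hfI
  obtain ⟨NY, r', hr', hNY, hNYp⟩ := exists_flat_to hIYp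
  haveI := hr'
  obtain ⟨hi, hs⟩ := (psi_iff_UB Jy r' hNY hNYp).2 (UB_of_isIso_uu Jy (isIso_uu_of_resolution Jy i) hNY)
  let c' := DerivedCategory.Q.map (cc f J t I) ≫ inv (DerivedCategory.Q.map (HomCx.m (Eval.PhiL Y) rY Jy))
  have key : ∀ x : Op f ⟶ I,
      DerivedCategory.Q.map ((Proj.pushCx f).map (HomCx.m (Eval.PhiL X) x J) ≫ c0 f J t) =
        c' ≫ DerivedCategory.Q.map (HomCx.m (Eval.PhiL Y) ((adjC f).homEquiv _ _ x ≫ rY) Jy) := fun x => by
    rw [← cc_comp f J t x, ← m_comp, Functor.map_comp DerivedCategory.Q, Functor.map_comp DerivedCategory.Q]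
    simp only [c', Category.assoc, IsIso.inv_hom_id_assoc]
  refine ⟨fun x x' h => ?_, fun e => ?_⟩
  · rw [key, key, cancel_epi] at h
    have h' := (hi _ _).1 h
    rw [Functor.map_comp, Functor.map_comp, cancel_mono] at h'
    exact (Q_unit_eq_iff f isKFlat_O0 x x').1 h'
  · obtain ⟨y, hy⟩ := hs (inv c' ≫ e)
    obtain ⟨x, hx⟩ := exists_Q_unit f isKFlat_O0 (DerivedCategory.Q.map y ≫ inv (DerivedCategory.Q.map rY))
    refine ⟨x, ?_⟩
    have h1 : DerivedCategory.Q.map ((adjC f).homEquiv _ _ x ≫ rY) = DerivedCategory.Q.map y := by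
      rw [Functor.map_comp, hx, Category.assoc, IsIso.inv_hom_id, Category.comp_id]
    have h2 : DerivedCategory.Q.map (HomCx.m (Eval.PhiL Y) ((adjC f).homEquiv _ _ x ≫ rY) Jy) =
        DerivedCategory.Q.map (HomCx.m (Eval.PhiL Y) y Jy) := (hi _ _).2 h1
    rw [key, h2, hy, IsIso.hom_inv_id_assoc]

variable (hpc : ∀ m, DCoh.IsPseudoCoherentD m (a.obj O).obj)

include i adj O eJ γ hperf ht hpc in
set_option maxHeartbeats 1600000 in
set_option synthInstance.maxHeartbeats 200000 in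
/-- on the source contravariance is bijective on global sections -/
theorem psi_source {I : CochainComplex X.Modules ℤ} [I.IsKInjective] (hI : DCoh.IsPerfect (DCoh.toD X I)) :
    Psi J I := by
  have hOp : DCoh.IsKFlat (Op f) := KFlat.pullback_kflat f _ isKFlat_O0
  have hOpp : DCoh.IsPerfect (DCoh.toD X (Op f)) :=
    isPerfect_of_iso (DerivedCategory.Q.mapIso (unitOp f)).symm AdjTensor.isPerfect_O0
  haveI := isKInjective_HA (J := J) hOp
  haveI := SupportAdj.isIso_pushComp f (HA (Op f) J)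
  haveI := (DerivedCategory.isIso_Q_map_iff_quasiIso _ i).2 inferInstance
  have hJq : DCoh.IsQCohD (DerivedCategory.Q.obj J) := isQCohD_of_iso eJ.symm (a.obj O).property
  let A0 : DCoh.DQCoh X := ⟨_, isQCohD_HA hOpp hJq⟩
  let ι := DerivedCategory.Q.mapIso (iota Jy) ≪≫ γ.symm
  let e0 : (DCoh.RpushQ f hf).obj A0 ⟶ O := ObjectProperty.homMk
    (inv (SupportAdj.pushComp f (HA (Op f) J)) ≫ DerivedCategory.Q.map (c0 f J t) ≫ ι.hom)
  let E0 := adj.homEquiv A0 O e0
  -- the bijection, read after `E0`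
  have main : ∀ {I : CochainComplex X.Modules ℤ} [I.IsKInjective], DCoh.IsPerfect (DCoh.toD X I) →
      (∀ x x' : Op f ⟶ I, DerivedCategory.Q.map (HomCx.m (Eval.PhiL X) x J) ≫ E0.hom =
        DerivedCategory.Q.map (HomCx.m (Eval.PhiL X) x' J) ≫ E0.hom →
          DerivedCategory.Q.map x = DerivedCategory.Q.map x') ∧
      ∀ η : DerivedCategory.Q.obj (HA I J) ⟶ (a.obj O).obj,
        ∃ x : Op f ⟶ I, DerivedCategory.Q.map (HomCx.m (Eval.PhiL X) x J) ≫ E0.hom = η := by
    intro I _ hI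
    obtain ⟨-, hpI, -⟩ := isIso_cc_perfect f adj O J eJ Jy γ hperf ht hI
    haveI := hpI
    let AI : DCoh.DQCoh X := ⟨_, isQCohD_HA hI hJq⟩
    have k : ∀ x : Op f ⟶ I,
        DerivedCategory.Q.map ((Proj.pushCx f).map (HomCx.m (Eval.PhiL X) x J) ≫ c0 f J t) ≫ ι.hom =
          SupportAdj.pushComp f (HA I J) ≫ ((adj.homEquiv AI O).symm
            ((ObjectProperty.homMk (DerivedCategory.Q.map (HomCx.m (Eval.PhiL X) x J)) : AI ⟶ A0) ≫ E0)).hom :=
      fun x => by
      rw [adj.homEquiv_naturality_left_symm, Equiv.symm_apply_apply]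
      change _ = _ ≫ (DCoh.Rpush f).map (DerivedCategory.Q.map _) ≫
        inv (SupportAdj.pushComp f (HA (Op f) J)) ≫ DerivedCategory.Q.map (c0 f J t) ≫ ι.hom
      rw [← Category.assoc, ← SupportAdj.pushComp_natural f, Category.assoc, IsIso.hom_inv_id_assoc,
        Functor.map_comp DerivedCategory.Q, Category.assoc]
    obtain ⟨hi, hs⟩ := bij_c0 f adj O J eJ Jy i γ hperf ht hI
    refine ⟨fun x x' h => hi x x' ?_, fun η => ?_⟩
    · rw [← cancel_mono ι.hom, k, k]
      exact congrArg (fun z : AI ⟶ a.obj O => SupportAdj.pushComp f (HA I J) ≫ ((adj.homEquiv AI O).symm z).hom)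
        (ObjectProperty.hom_ext _ h)
    · obtain ⟨x, hx⟩ := hs ((SupportAdj.pushComp f (HA I J) ≫
        ((adj.homEquiv AI O).symm (ObjectProperty.homMk η : AI ⟶ a.obj O)).hom) ≫ ι.inv)
      refine ⟨x, ?_⟩
      have h1 := k x
      rw [hx, Category.assoc, Iso.inv_hom_id, Category.comp_id, cancel_epi] at h1
      exact (congrArg (fun z : AI ⟶ a.obj O => z.hom)
        ((adj.homEquiv AI O).symm.injective (ObjectProperty.hom_ext _ h1))).symm
  -- the constant is invertible
  haveI hE : IsIso E0.hom := by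
    obtain ⟨I0, j, hI0, hj⟩ := ProjFormulaD.exists_kinj (Op f)
    haveI : I0.IsKInjective := hI0
    haveI : QuasiIso j := hj
    haveI : IsIso (DerivedCategory.Q.map j) := (DerivedCategory.isIso_Q_map_iff_quasiIso _ _).2 hj
    haveI := isIso_Q_mL (J := J) j
    haveI := isIso_Q_mL (J := J) (unitOp f).inv
    let e : DerivedCategory.Q.obj (HA (Op f) J) ≅ (a.obj O).obj :=
      asIso (DerivedCategory.Q.map (HomCx.m (Eval.PhiL X) (unitOp f).inv J)) ≪≫
        DerivedCategory.Q.mapIso (iota J) ≪≫ eJ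
    obtain ⟨x, hx⟩ := (main (isPerfect_of_iso (asIso (DerivedCategory.Q.map j)) hOpp)).2
      (DerivedCategory.Q.map (HomCx.m (Eval.PhiL X) j J) ≫ e.hom)
    let s := e.inv ≫ inv (DerivedCategory.Q.map (HomCx.m (Eval.PhiL X) j J)) ≫
      DerivedCategory.Q.map (HomCx.m (Eval.PhiL X) x J)
    have hs : s ≫ E0.hom = 𝟙 (a.obj O).obj := by
      simp only [s, Category.assoc]
      rw [hx, IsIso.inv_hom_id_assoc, Iso.inv_hom_id]
    haveI := Groth.Lead.Cancel.isIso_of_splitMono hpc s E0.hom hs e.symm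
    exact IsIso.of_isIso_fac_left (hh := IsIso.id _) hs
  obtain ⟨hi, hs⟩ := main hI
  haveI := isIso_Q_mL (J := J) (unitOp f).hom
  have hm : ∀ x : RHom.O0 X ⟶ I, DerivedCategory.Q.map (HomCx.m (Eval.PhiL X) ((unitOp f).hom ≫ x) J) =
      DerivedCategory.Q.map (HomCx.m (Eval.PhiL X) x J) ≫
        DerivedCategory.Q.map (HomCx.m (Eval.PhiL X) (unitOp f).hom J) := fun x => by
    rw [← m_comp, Functor.map_comp]
  refine ⟨fun x x' => ⟨fun h => ?_, fun h => ?_⟩, fun η => ?_⟩
  · have := hi _ _ (congrArg (fun z => z ≫ E0.hom)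
      ((hm x).trans ((congrArg (· ≫ _) h).trans (hm x').symm)))
    rw [Functor.map_comp, Functor.map_comp, cancel_epi] at this
    exact this
  · exact Q_m_congr J h
  · obtain ⟨x, hx⟩ := hs ((η ≫ DerivedCategory.Q.map (HomCx.m (Eval.PhiL X) (unitOp f).hom J)) ≫ E0.hom)
    rw [cancel_mono] at hx
    refine ⟨(unitOp f).inv ≫ x, (cancel_mono (DerivedCategory.Q.map (HomCx.m (Eval.PhiL X) (unitOp f).hom J))).1 ?_⟩
    rw [← hm, Iso.hom_inv_id_assoc]
    exact hx

end Groth.Lead.SelfHom
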