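import Groth.Agent.Lead.SelfHom.Main
import Groth.Agent.L07.BvdB.DualFun

/-!
`Rf_*(E ⊗ a O)` is perfect for perfect `E`.
-/

set_option autoImplicit false
set_option linter.style.haveILetI false
set_option backward.defeqAttrib.useBackward true
set_option backward.isDefEq.respectTransparency false
set_option backward.isDefEq.respectTransparency.types false

universe v u

open CategoryTheory CategoryTheory.Limits AlgebraicGeometry CochainComplex

attribute [local instance] HasDerivedCategory.standard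

noncomputable section

namespace Groth.Lead.SelfHom

open Groth.L00 Groth.L29.DC Groth.L29.BC Groth.L07.BvdB

variable {X Y : Scheme.{u}} (f : X ⟶ Y) [QuasiCompact f] [QuasiSeparated f] [DCoh.HasRpush f]
  {hf : DCoh.RpushPreservesQCoh f} {a : DCoh.DQCoh Y ⥤ DCoh.DQCoh X} (adj : DCoh.RpushQ f hf ⊣ a)
  (O : DCoh.DQCoh Y)

include adj in
theorem isPerfect_push_tensor (hO : Nonempty (O.obj ≅ DCoh.inD Y (Coh.structureModule Y)))
    (hperf : ∀ P : DCoh.D X, DCoh.IsPerfect P → DCoh.IsPerfect ((DCoh.Rpush f).obj P))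
    (K : CochainComplex X.Modules ℤ) [DCoh.HasLTensorCx K]
    (eK : DCoh.toD X K ≅ (a.obj O).obj) (E : DCoh.D X) (hE : DCoh.IsPerfect E) :
    DCoh.IsPerfect ((DCoh.Rpush f).obj ((DCoh.LTensorCx K).obj E)) := by
  haveI := fun {A B : Scheme.{u}} (k : A ⟶ B) => KFlat.hasLpull k
  obtain ⟨J, hJ, ⟨eJ⟩⟩ := EvalMain.exists_kinj (a.obj O).obj
  haveI : J.IsKInjective := hJ
  obtain ⟨Jy, i, hJy, hi⟩ := ProjFormulaD.exists_kinj (RHom.O0 Y)
  haveI : Jy.IsKInjective := hJy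
  haveI := (DerivedCategory.isIso_Q_map_iff_quasiIso _ i).2 hi
  obtain ⟨eO⟩ := hO
  let γ : O.obj ≅ DerivedCategory.Q.obj Jy :=
    eO ≪≫ ((DerivedCategory.singleFunctorIsoCompQ Y.Modules 0).app _) ≪≫ asIso (DerivedCategory.Q.map i)
  obtain ⟨t, ht⟩ := exists_trace_map f adj O J eJ Jy γ
  -- the dual of `E`
  let A := DualFun.dual E
  have hA : DCoh.IsPerfect A := DualFun.isPerfect_dual hE
  obtain ⟨I, hI, ⟨eI⟩⟩ := EvalMain.exists_kinj A
  haveI : I.IsKInjective := hI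
  have hIp : DCoh.IsPerfect (DCoh.toD X I) := isPerfect_of_iso eI.symm hA
  obtain ⟨hc, hpI, hfI⟩ := isIso_cc_perfect f adj O J eJ Jy γ hperf ht hIp
  haveI := hc
  haveI := hpI
  haveI := fun {Z : Scheme.{u}} (E : CochainComplex Z.Modules ℤ) => KFlat.hasLTensorCx E
  haveI := fun {Z : Scheme.{u}} (E : CochainComplex Z.Modules ℤ) => RHom.hasRSheafHom E
  -- perfectness
  have hR : DCoh.IsPerfect ((DCoh.Rpush f).obj (DerivedCategory.Q.obj (HA I J))) := by
    let G := (Proj.pushCx f).obj I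
    let G' := (KFlat.RF Y).obj G
    haveI := KFlat.quasiIso_rF (Y := Y) G
    haveI := (DerivedCategory.isIso_Q_map_iff_quasiIso _ ((KFlat.rF Y).app G)).2 inferInstance
    let eG : DCoh.toD Y G' ≅ DCoh.toD Y G := asIso (DerivedCategory.Q.map ((KFlat.rF Y).app G))
    obtain ⟨c⟩ := nonempty_HA_iso G Jy
    obtain ⟨s⟩ := EvalMain.nonempty_RSheafHom_iso eG
    exact isPerfect_of_iso ((DCoh.RSheafHom G').mapIso (asIso (DerivedCategory.Q.map i)) ≪≫ s.app _ ≪≫ c.symm ≪≫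
      (asIso (DerivedCategory.Q.map (cc f J t I))).symm ≪≫ asIso (SupportAdj.pushComp f (HA I J)))
      (EvalMain.isPerfect_dual G' (KFlat.isKFlat_RF G) (isPerfect_of_iso eG.symm hfI))
  -- identification
  obtain ⟨b⟩ := DualFun.nonempty_bidual hE
  let N := DualFun.rep A
  let D := DualFun.rep E
  obtain ⟨c⟩ := nonempty_HA_iso I J
  obtain ⟨s⟩ := EvalMain.nonempty_RSheafHom_iso (E := I) (E' := N) (eI ≪≫ (DualFun.repIso A).symm)
  obtain ⟨w⟩ := EvalMain.nonempty_dual N D (DualFun.isKFlat_rep A)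
    (isPerfect_of_iso (DualFun.repIso A).symm hA) (DualFun.isKFlat_rep E)
    ⟨DualFun.repIso E ≪≫ b.symm ≪≫ DualFun.dualIso A (DualFun.repIso A)⟩ (DCoh.toD X J)
  let M := DualFun.rep (a.obj O).obj
  obtain ⟨sw⟩ := DualHom.nonempty_lt_swap (DualFun.isKFlat_rep E) (DualFun.isKFlat_rep (a.obj O).obj)
  obtain ⟨θ⟩ := RHom.nonempty_lt_iso (E := M) (E' := K) (DualFun.repIso _ ≪≫ eK.symm)
  exact isPerfect_of_iso ((DCoh.Rpush f).mapIso (c ≪≫ s.app _ ≪≫ w.symm ≪≫
    (DCoh.LTensorCx D).mapIso (eJ ≪≫ (DualFun.repIso _).symm) ≪≫ sw ≪≫ θ.app _ ≪≫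
    (DCoh.LTensorCx K).mapIso (DualFun.repIso E))) hR

end Groth.Lead.SelfHom
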