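import Groth.Agent.Lead.SelfHom.Chain
import Groth.Agent.L29.BC.Adj
import Groth.Agent.L29.BC.SupportAdj

/-!
Maps from K-flat complexes into direct images of K-injective complexes, in the derived category.
-/

set_option autoImplicit false
set_option linter.style.haveILetI false
set_option backward.defeqAttrib.useBackward true
set_option backward.isDefEq.respectTransparency false
set_option backward.isDefEq.respectTransparency.types false

universe v u

open CategoryTheory CategoryTheory.Limits AlgebraicGeometry CochainComplex

attribute [local instance] HasDerivedCategory.standard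

noncomputable section

namespace Groth.Lead.SelfHom

open Groth.L00 Groth.L29.DC Groth.L29.BC

variable {X Y : Scheme.{u}} (f : X ⟶ Y)

/-- the adjunction on complexes -/
def adjC : Proj.pullCx f ⊣ Proj.pushCx f :=
  haveI := Groth.L17.PushQCoh.additive_push f
  haveI : (Scheme.Modules.pullback f).Additive :=
    (Scheme.Modules.pullbackPushforwardAdjunction f).left_adjoint_additive
  let a := Scheme.Modules.pullbackPushforwardAdjunction f
  { unit :=
      { app := fun P => { f := fun i => a.unit.app (P.X i), comm' := fun i j _ => (a.unit.naturality _).symm }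
        naturality := fun P Q φ => by ext i : 1; exact a.unit.naturality (φ.f i) }
    counit :=
      { app := fun P => { f := fun i => a.counit.app (P.X i), comm' := fun i j _ => (a.counit.naturality _).symm }
        naturality := fun P Q φ => by ext i : 1; exact a.counit.naturality (φ.f i) }
    left_triangle_components := fun P => by ext i : 1; exact a.left_triangle_components _
    right_triangle_components := fun P => by ext i : 1; exact a.right_triangle_components _ }

variable [DCoh.HasRpush f] [DCoh.HasLpull f]

theorem Q_unit_pushComp {Z : CochainComplex Y.Modules ℤ} (hZ : DCoh.IsKFlat Z) {I : CochainComplex X.Modules ℤ}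
    (b : (Proj.pullCx f).obj Z ⟶ I) :
    DerivedCategory.Q.map ((adjC f).homEquiv Z I b) ≫ SupportAdj.pushComp f I =
      (adj f).homEquiv _ _ ((DerivedApi.objIso (DerivedApi.acyclicKFlat_pullback f) Z hZ).hom ≫
        DerivedCategory.Q.map b) := by
  haveI := Groth.L17.PushQCoh.additive_push f
  haveI : (Scheme.Modules.pullback f).Additive :=
    (Scheme.Modules.pullbackPushforwardAdjunction f).left_adjoint_additive
  let cY := DerivedCategory.quotientCompQhIso Y.Modules
  let cX := DerivedCategory.quotientCompQhIso X.Modules
  let qY := HomotopyCategory.quotient Y.Modules (ComplexShape.up ℤ)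
  let qX := HomotopyCategory.quotient X.Modules (ComplexShape.up ℤ)
  rw [Adjunction.homEquiv_unit, Functor.map_comp DerivedCategory.Q, Category.assoc,
    SupportAdj.pushComp_natural f b, ← Category.assoc]
  rw [(adj f).homEquiv_unit, Functor.map_comp, ← Category.assoc]
  refine congrArg (· ≫ _) ?_
  have hu := adj_unit_fac f (qY.obj Z)
  have h1 := cY.inv.naturality ((adjC f).unit.app Z)
  have hn := (adj f).unit.naturality ((cY.app Z).inv)
  dsimp only [DerivedApi.objIso, SupportAdj.pushComp]
  simp only [Iso.trans_hom, Functor.mapIso_hom, Iso.symm_hom, asIso_hom, Iso.app_hom, Functor.map_comp]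
  refine Eq.symm ((Category.assoc _ _ _).symm.trans ?_)
  refine ((congrArg (· ≫ _) hn.symm).trans ((Category.assoc _ _ _).trans ?_))
  refine Eq.trans ?_ ((congrArg (· ≫ _) h1).trans (Category.assoc _ _ _)).symm |>.trans (Category.assoc _ _ _)
  refine congrArg ((cY.app Z).inv ≫ ·) ?_
  have hc : (DerivedApi.counit (Scheme.Modules.pullback f)).app Z = (αL f).app (qY.obj Z) := by
    dsimp only [DerivedApi.counit, NatTrans.comp_app, Functor.associator_hom_app, Functor.whiskerLeft_app]
    exact Category.id_comp _
  have hq : (DerivedApi.cxqIso (Scheme.Modules.pullback f)).hom.app Z =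
      (cX.app ((Proj.pullCx f).obj Z)).hom := by
    simp only [DerivedApi.cxqIso, Iso.trans_hom, Iso.symm_hom, NatTrans.comp_app, Functor.associator_inv_app,
      Functor.associator_hom_app, Functor.isoWhiskerRight_hom, Functor.whiskerRight_app, Functor.isoWhiskerLeft_hom,
      Functor.whiskerLeft_app, Category.id_comp]
    erw [show ((Scheme.Modules.pullback f).mapHomotopyCategoryFactors (ComplexShape.up ℤ)).hom.app Z = 𝟙 _ from rfl,
      CategoryTheory.Functor.map_id, Category.id_comp]
    try rfl
  rw [hc, hq]
  refine ((Category.assoc _ _ _).symm.trans ((congrArg (· ≫ _) hu).trans (Category.assoc _ _ _))).trans ?_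
  rfl

variable {Z : CochainComplex Y.Modules ℤ} (hZ : DCoh.IsKFlat Z) {I : CochainComplex X.Modules ℤ} [I.IsKInjective]

include hZ in
theorem exists_Q_unit (d : DerivedCategory.Q.obj Z ⟶ DerivedCategory.Q.obj ((Proj.pushCx f).obj I)) :
    ∃ b : (Proj.pullCx f).obj Z ⟶ I, DerivedCategory.Q.map ((adjC f).homEquiv Z I b) = d := by
  haveI := SupportAdj.isIso_pushComp f I
  obtain ⟨b, hb⟩ := DerAdj.exists_Q_map
    ((DerivedApi.objIso (DerivedApi.acyclicKFlat_pullback f) Z hZ).inv ≫
      ((adj f).homEquiv _ _).symm (d ≫ SupportAdj.pushComp f I))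
  refine ⟨b, (cancel_mono (SupportAdj.pushComp f I)).1 ?_⟩
  rw [Q_unit_pushComp f hZ, hb, Iso.hom_inv_id_assoc, Equiv.apply_symm_apply]

include hZ in
theorem Q_unit_eq_iff (b b' : (Proj.pullCx f).obj Z ⟶ I) :
    DerivedCategory.Q.map ((adjC f).homEquiv Z I b) = DerivedCategory.Q.map ((adjC f).homEquiv Z I b') ↔
      DerivedCategory.Q.map b = DerivedCategory.Q.map b' := by
  haveI := SupportAdj.isIso_pushComp f I
  rw [← cancel_mono (SupportAdj.pushComp f I), Q_unit_pushComp f hZ, Q_unit_pushComp f hZ,
    ((adj f).homEquiv _ _).injective.eq_iff, cancel_epi]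

end Groth.Lead.SelfHom
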